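import Cfsg.Agent.Fac.Op
/-!
A pushing up argument in an amalgam carried out inside a solvable fixed point subgroup.
-/
set_option autoImplicit false
set_option linter.unusedSectionVars false

namespace Cfsg.Agent.Fac
open Subgroup Cfsg.Agent.BG
open scoped Pointwise

universe u
variable {G : Type u} [Group G] [Finite G] {B D K N Q T T' U V W W' X Y Θ : Subgroup G} {g : G}
  {𝒱 𝒱' : Set (Subgroup G)}

theorem inv_word (n : ℕ) : ∀ g ∈ ((N : Set G) * U) ^ n, ∃ u ∈ U, ∃ h ∈ ((N : Set G) * U) ^ n, g⁻¹ = u * h := by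
  induction n with
  | zero => exact fun g a => ⟨1, one_mem _, 1, by simp, by simpa using a⟩
  | succ n ih =>
  intro g a
  rw [pow_succ] at a
  obtain ⟨g, a, _, ⟨x, b, u, c, rfl⟩, rfl⟩ := a
  obtain ⟨v, d, h, e, f⟩ := ih g a
  refine ⟨u⁻¹, inv_mem c, x⁻¹ * v * h, pow_succ' ((N : Set G) * U) n ▸
    Set.mul_mem_mul (Set.mul_mem_mul (inv_mem b : _ ∈ N) d) e, ?_⟩
  simp only [mul_inv_rev, f, mul_assoc]

theorem cj_cent_symm (h : cj g V ≤ C[V]) : cj g⁻¹ V ≤ C[V] := by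
  have := cj_mono g⁻¹ h
  rw [cj_inv_cj, cj_C] at this
  exact cent_symm this

/-- No critical pairs: all conjugates of `V` under the amalgam lie in `Q`. -/
theorem amalgam (hVQ : V ≤ Q) (hQT : Q ≤ T) (hTQ : T ⊓ C[V] ≤ Q) (hN : N ≤ N[T]) (hUV : U ≤ N[V])
    (hUQ : U ≤ N[Q]) (hX : X ≤ N) (hD : D ≤ U)
    (FC : ∀ g ∈ X ⊔ D, cj g V ≤ T → V ≤ cj g T → cj g V ≤ C[V])
    (SH : ∀ g, cj g V ≤ T → V ≤ cj g T → (∀ c ∈ D, ∀ y ∈ X, cj (c * y) V ≤ cj g T) → cj g V ≤ C[V]) :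
    ∀ g ∈ N ⊔ U, cj g V ≤ Q := by
  set S : Set G := (N : Set G) * U with hS
  have step : ∀ n, (∀ g ∈ S ^ n, cj g V ≤ Q) → ∀ g ∈ S ^ (n + 1), cj g V ≤ T := fun n h g a => by
    rw [pow_succ'] at a
    obtain ⟨_, ⟨x, b, u, c, rfl⟩, g, a, rfl⟩ := a
    simp only [cj_mul]
    exact cj_le_of_mem ((cj_le_of_mem (h g a) (hUQ c)).trans hQT) (hN b)
  have main : ∀ n, ∀ g ∈ S ^ n, cj g V ≤ Q := fun n => by
    induction n with
    | zero => intro g a; obtain rfl : g = 1 := by simpa using a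
              rw [cj_one]; exact hVQ
    | succ n ih =>
    have st := step n ih
    refine fun g a => (le_inf (st g a) ?_).trans hTQ
    by_contra hn
    have facts : ∀ g ∈ S ^ n, ∀ x ∈ N, ∀ u ∈ U, cj (g * x) V ≤ T ∧ V ≤ cj (g * x) T ∧
        cj (g * (x * u)) V = cj (g * x) V := fun g a x b u c => by
      have e : cj (g * (x * u)) V = cj (g * x) V := by rw [← mul_assoc, cj_mul _ u, cj_of_mem_N (hUV c)]
      refine ⟨e ▸ st _ (pow_succ S n ▸ Set.mul_mem_mul a (Set.mul_mem_mul b c)), ?_, e⟩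
      obtain ⟨v, d, h, f, i⟩ := inv_word n g a
      rw [cj_mul, cj_of_mem_N (hN b), le_cj_iff, i, cj_mul]
      exact (cj_le_of_mem (ih h f) (hUQ d)).trans hQT
    have sub : ∀ k, ((X : Set G) * D) ^ k ⊆ S ^ k := fun k => Set.pow_subset_pow_left (Set.mul_subset_mul hX hD)
    have key : ∀ k j, k + j = n + 1 → ∃ h ∈ ((X : Set G) * D) ^ k, ∃ g ∈ S ^ j, ¬ cj (h * g) V ≤ C[V] := fun k => by
      induction k with
      | zero => exact fun j e => ⟨1, by simp, g, by rwa [← zero_add j, e], by rwa [one_mul]⟩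
      | succ k ik =>
      intro j e
      obtain ⟨h, h1, g, g1, hc⟩ := ik (j + 1) (by omega)
      rw [pow_succ] at g1
      obtain ⟨g, g1, _, ⟨x, b, u, c, rfl⟩, rfl⟩ := g1
      have m : h * g ∈ S ^ n := by
        rw [show n = k + j by omega, pow_add]; exact Set.mul_mem_mul (sub k h1) g1
      obtain ⟨f1, f2, f3⟩ := facts _ m x b u c
      simp only at hc
      rw [← mul_assoc, f3] at hc
      by_contra hn
      refine hc (SH _ f1 f2 fun d d1 y y1 => ?_)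
      have i : cj (y⁻¹ * d⁻¹ * h * g) V ≤ C[V] := by_contra fun i => hn ⟨y⁻¹ * d⁻¹ * h, pow_succ' ((X : Set G) * D) k ▸
        Set.mul_mem_mul (Set.mul_mem_mul (inv_mem y1 : _ ∈ X) (inv_mem d1 : _ ∈ D)) h1, g, g1, i⟩
      obtain ⟨v, v1, t, t1, e'⟩ := inv_word (n + 1) (y⁻¹ * d⁻¹ * h * g) (by
        rw [pow_succ', mul_assoc _ h]
        exact Set.mul_mem_mul (Set.mul_mem_mul (hX (inv_mem y1)) (hD (inv_mem d1))) m)
      have i2 := cj_cent_symm i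
      rw [e', cj_mul, cj_le_iff, cj_of_mem_N (normC hUV (inv_mem v1))] at i2
      have i3 := (cj_le_of_mem ((le_inf (st t t1) i2).trans hTQ) (hUQ v1)).trans hQT
      rw [← cj_mul, ← e'] at i3
      rw [cj_mul _ x, cj_of_mem_N (hN b), le_cj_iff, ← cj_mul]
      convert i3 using 2; group
    obtain ⟨h, h1, g, g1, hc⟩ := key (n + 1) 0 rfl
    obtain rfl : g = 1 := by simpa using g1
    rw [pow_succ] at h1
    obtain ⟨h, h1, _, ⟨x, b, u, c, rfl⟩, rfl⟩ := h1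
    obtain ⟨f1, f2, f3⟩ := facts _ (sub n h1) x (hX b) u (hD c)
    simp only [mul_one] at hc
    refine hc (f3 ▸ FC _ (mul_mem ?_ (mem_sup_left b)) f1 f2)
    exact Subgroup.pow_subset (by rintro _ ⟨x, b, u, c, rfl⟩; exact mul_mem_sup' b c) h1
  let M : Subgroup G := ⟨⟨⟨{g | ∃ n, g ∈ S ^ n}, fun ⟨n, a⟩ ⟨m, b⟩ => ⟨n + m, pow_add S n m ▸ Set.mul_mem_mul a b⟩⟩,
    ⟨0, by simp⟩⟩, fun ⟨n, a⟩ => by
      obtain ⟨v, d, h, f, i⟩ := inv_word n _ a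
      exact ⟨n + 1, by rw [pow_succ', i]; exact Set.mul_mem_mul ⟨1, one_mem N, v, d, one_mul v⟩ f⟩⟩
  intro g a
  obtain ⟨n, b⟩ := (sup_le (fun x b => ⟨1, by rw [pow_one]; exact ⟨x, b, 1, one_mem U, mul_one x⟩⟩)
    (fun x b => ⟨1, by rw [pow_one]; exact ⟨1, one_mem N, x, b, one_mul x⟩⟩) : N ⊔ U ≤ M) a
  exact main n g b

theorem cj_sSup (g : G) (𝒱 : Set (Subgroup G)) : cj g (sSup 𝒱) = sSup (cj g '' 𝒱) := by
  rw [sSup_image, sSup_eq_iSup, cj_def, (gc_map_comap _).l_iSup₂]; rfl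

/-- the product of the other members -/
abbrev Oth (𝒱 : Set (Subgroup G)) (W : Subgroup G) : Subgroup G := sSup (𝒱 \ {W})

theorem Oth_le (𝒱 : Set (Subgroup G)) (W : Subgroup G) : Oth 𝒱 W ≤ sSup 𝒱 := sSup_le_sSup Set.sdiff_subset
theorem le_Oth (h : W' ∈ 𝒱) (h1 : W' ≠ W) : W' ≤ Oth 𝒱 W := le_sSup ⟨h, h1⟩

theorem cj_Oth (h : ∀ W ∈ 𝒱, cj g W ∈ 𝒱) : cj g (Oth 𝒱 W) ≤ Oth 𝒱 (cj g W) := by
  rw [cj_le_iff]
  exact sSup_le fun U a => cj_le_iff.1 (le_Oth (h U a.1) fun e => a.2 (cj_eq_cj.1 e))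

/-- A system of independent planes acted on by `T`. -/
structure PS (𝒱 : Set (Subgroup G)) (T : Subgroup G) : Prop where
  ab : Abel (sSup 𝒱)
  ind : ∀ W ∈ 𝒱, W ⊓ Oth 𝒱 W = ⊥
  ln : ∀ W ∈ 𝒱, (#(W ⊓ C[T])).Prime
  cm : ∀ W ∈ 𝒱, ⁅W, T⁆ ≤ W ⊓ C[T]

namespace PS

theorem cj (h : PS 𝒱 T) (g : G) : PS (cj g '' 𝒱) (cj g T) := by
  refine ⟨cj_sSup g 𝒱 ▸ abel_cj.2 h.ab, ?_, ?_, ?_⟩ <;> rintro _ ⟨W, a, rfl⟩
  · rw [Oth, ← Set.image_singleton, ← Set.image_sdiff (cj_injective g), ← cj_sSup, ← cj_inf, h.ind W a, cj_bot]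
  · rw [← cj_C, ← cj_inf, card_cj]; exact h.ln W a
  · rw [← cj_C, ← cj_inf, ← cj_comm]; exact cj_mono g (h.cm W a)

theorem norm (h : PS 𝒱 T) (a : W ∈ 𝒱) : T ≤ N[W] := comm_le_l.1 ((h.cm W a).trans inf_le_left)

theorem eq (h : PS 𝒱 T) (a : W ∈ 𝒱) (b : W' ∈ 𝒱) (h1 : D ≠ ⊥) (h2 : D ≤ W) (h3 : D ≤ W') : W' = W :=
  by_contra fun e => h1 (eq_bot_iff.2 ((le_inf h2 (h3.trans (le_Oth b e))).trans (h.ind W a).le))

theorem comm_le (h : PS 𝒱 T) (h' : PS 𝒱' T') (h1 : sSup 𝒱' ≤ T) (h2 : sSup 𝒱 ≤ T') (a : W ∈ 𝒱) (b : W' ∈ 𝒱') :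
    ⁅W, W'⁆ ≤ (W ⊓ C[T]) ⊓ (W' ⊓ C[T']) :=
  le_inf ((commS le_rfl ((le_sSup b).trans h1)).trans (h.cm W a))
    (commC W W' ▸ (commS le_rfl ((le_sSup a).trans h2)).trans (h'.cm W' b))

theorem meet (h : PS 𝒱 T) (h' : PS 𝒱' T') (h1 : sSup 𝒱' ≤ T) (h2 : sSup 𝒱 ≤ T') (a : W ∈ 𝒱) (b : W' ∈ 𝒱')
    (hn : ¬ W' ≤ C[W]) : W ⊓ C[T] = W' ⊓ C[T'] := by
  have c : (W ⊓ C[T]) ⊓ (W' ⊓ C[T']) ≠ ⊥ := fun e =>
    hn (comm_eq_bot'.1 (eq_bot_iff.2 ((h.comm_le h' h1 h2 a b).trans e.le)))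
  exact le_antisymm (le_of_prime (h.ln W a) c) (le_of_prime (h'.ln W' b) (inf_comm (W ⊓ C[T]) _ ▸ c))

theorem exists_pair (hn : ¬ sSup 𝒱' ≤ C[sSup 𝒱]) : ∃ W ∈ 𝒱, ∃ W' ∈ 𝒱', ¬ W' ≤ C[W] := by
  by_contra h
  push Not at h
  exact hn (sSup_le fun W' b => cent_symm (sSup_le fun W a => cent_symm (h W a W' b)))

theorem indep (h : PS 𝒱 T) {s : Set (Subgroup G)} (hs : s ⊆ 𝒱) :
    ∀ v ∈ sSup s, (∀ W ∈ s, v ∈ Oth 𝒱 W) → v = 1 := by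
  induction s, Set.toFinite s using Set.Finite.induction_on with
  | empty => exact fun v a _ => by simpa using a
  | @insert W s hW _ ih =>
  intro v a b
  have w := hs (Set.mem_insert W s)
  have s1 := (Set.subset_insert W s).trans hs
  rw [sSup_insert] at a
  obtain ⟨u, c, y, d, rfl⟩ := (mem_sup_l (cents_norm (centSS h.ab (sSup_le_sSup s1) (le_sSup w)))).1 a
  have e : y ∈ Oth 𝒱 W := sSup_le_sSup (show s ⊆ 𝒱 \ {W} from fun U f => ⟨s1 f, fun (i : U = W) => hW (i ▸ f)⟩) d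
  obtain rfl : u = 1 := mem_bot.1 ((h.ind W w).le ⟨c, by
    simpa using mul_mem (b W (Set.mem_insert W s)) (inv_mem e)⟩)
  exact ih s1 _ (by simpa using d) fun U f => b U (Set.mem_insert_of_mem W f)

/-- The shifting step. -/
theorem shift (h : PS 𝒱 T) (hT : T ≤ K) (hD : D ≤ K) (hY : sSup 𝒱 ≤ Y) (nD : D ≤ N[sSup 𝒱])
    (ex : ∀ W ∈ 𝒱, ∃ c ∈ D, c ∈ N[W] ∧ W ≤ (W ⊓ C[T]) ⊔ BG.cj c (W ⊓ C[T]))
    (bad : ∀ W ∈ 𝒱, K ⊓ N[Y] ⊓ N[W] ≤ N[W ⊓ C[T]]) (h1 : BG.cj g (sSup 𝒱) ≤ T) (h2 : sSup 𝒱 ≤ BG.cj g T)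
    (h3 : ∀ c ∈ D, BG.cj c Y ≤ BG.cj g T) : BG.cj g (sSup 𝒱) ≤ C[sSup 𝒱] := by
  rw [cj_sSup] at h1 ⊢
  by_contra hn
  obtain ⟨W, a, W', b, hn⟩ := exists_pair hn
  have h' := h.cj g
  have e := h.meet h' h1 h2 a b hn
  obtain ⟨c, c1, c2, c3⟩ := ex W a
  have w : W' ≤ T := (le_sSup b).trans h1
  have n : W' ≤ N[BG.cj c Y] := comm_le_r.1 ((commS le_rfl (h3 c c1)).trans ((h'.cm W' b).trans (e.ge.trans
    (inf_le_left.trans ((le_sSup a).trans ((cj_of_mem_N (nD c1)).ge.trans (cj_mono c hY)))))))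
  have n2 : W' ≤ N[BG.cj c (W ⊓ C[T])] := by
    rw [← cj_N, le_cj_iff]
    refine le_trans (le_inf (le_inf (cj_le_of_mem (w.trans hT) (normG K (hD (inv_mem c1)))) ?_)
      (cj_le_of_mem (w.trans (h.norm a)) (normG _ (inv_mem c2)))) (bad W a)
    rwa [← le_cj_iff, cj_N]
  have i : BG.cj c (W ⊓ C[T]) ⊓ (W ⊓ C[T]) = ⊥ := inf_bot_of_prime (by rw [card_cj]; exact h.ln W a) fun i =>
    hn (w.trans (cent_symm ((c3.trans (sup_le le_rfl i)).trans inf_le_right)))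
  refine hn (cent_symm (c3.trans (sup_le (inf_le_right.trans (centS w)) (comm_eq_bot.1 (eq_bot_iff.2
    ((le_inf (commL n2) ((commS (cj_le_of_mem inf_le_left c2) w).trans (h.cm W a))).trans i.le))))))

end PS

/-- A system of planes permuted by the coprime operator group `B`. -/
structure PSB (𝒱 : Set (Subgroup G)) (T B Θ : Subgroup G) : Prop extends PS 𝒱 T where
  perm : ∀ b ∈ B, ∀ W ∈ 𝒱, BG.cj b W ∈ 𝒱
  cen : ∀ W ∈ 𝒱, B ⊓ N[W] ≤ C[W]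
  nT : B ≤ N[T]
  fix : sSup 𝒱 ⊓ C[B] ≤ Θ
  ex : ∀ W ∈ 𝒱, ∃ c ∈ Θ, (∀ W' ∈ 𝒱, c ∈ N[W']) ∧ W ≤ (W ⊓ C[T]) ⊔ BG.cj c (W ⊓ C[T])

namespace PSB

theorem cj (h : PSB 𝒱 T B Θ) (hΘ : Θ ≤ C[B]) (hg : g ∈ Θ) : PSB (cj g '' 𝒱) (cj g T) B Θ := by
  have e := cj_of_mem_C (hΘ hg)
  refine ⟨h.toPS.cj g, ?_, ?_, e ▸ norm_cj.2 h.nT, ?_, ?_⟩
  · rintro b hb _ ⟨W, a, rfl⟩
    exact ⟨_, h.perm b hb W a, by rw [← cj_mul, ← cj_mul, mem_C.1 (hΘ hg) b hb]⟩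
  · rintro _ ⟨W, a, rfl⟩
    rw [← e, ← cj_N, ← cj_C, ← cj_inf]; exact cj_mono g (h.cen W a)
  · rw [← cj_sSup, ← e, ← cj_C, ← cj_inf]; exact cj_le_of_mem h.fix (normG Θ hg)
  · rintro _ ⟨W, a, rfl⟩
    obtain ⟨c, c1, c2, c3⟩ := h.ex W a
    refine ⟨g * c * g⁻¹, conj_mem (normG Θ hg) c1, ?_, ?_⟩
    · rintro _ ⟨W', b, rfl⟩
      rw [← cj_N]; exact mem_cj_conj.2 (c2 W' b)
    · rw [← cj_C, ← cj_inf, ← cj_mul, inv_mul_cancel_right, cj_mul, ← cj_sup]; exact cj_mono g c3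

theorem dich (h : PSB 𝒱 T B Θ) (a : W ∈ 𝒱) {b : G} (hb : b ∈ B) :
    (b ∈ C[W] ∧ b ∈ N[Oth 𝒱 W]) ∨ (BG.cj b W ≤ Oth 𝒱 W ∧ b ∉ N[W ⊓ C[T]]) := by
  by_cases e : BG.cj b W = W
  · exact .inl ⟨h.cen W a ⟨hb, mem_N_iff_cj.2 e⟩, mem_N_of_cj_le ((cj_Oth (h.perm b hb)).trans (by rw [e]))⟩
  · exact .inr ⟨le_Oth (h.perm b hb W a) e, fun n => e (h.eq a (h.perm b hb W a) (ne_bot_of_prime (h.ln W a))
      inf_le_left ((cj_of_mem_N n).ge.trans (cj_mono b inf_le_left)))⟩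

/-- Two systems acting on each other commute. -/
theorem commute (h : PSB 𝒱 T B Θ) (h' : PSB 𝒱' T' B Θ) (hΘ : Θ ≤ C[B]) (sΘ : Sol Θ) (sB : Sol B)
    (hc : (#B).Coprime #(sSup 𝒱)) (h1 : sSup 𝒱' ≤ T) (h2 : sSup 𝒱 ≤ T') : sSup 𝒱' ≤ C[sSup 𝒱] := by
  by_contra hn
  obtain ⟨W, a, W', a', hn⟩ := PS.exists_pair hn
  have e := h.meet h'.toPS h1 h2 a a' hn
  obtain ⟨c, c1, c2, c3⟩ := h.ex W a
  obtain ⟨c', c1', c2', c3'⟩ := h'.ex W' a'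
  rw [← e] at c3'
  have pl := h.ln W a
  have d := fun b hb => h.dich a (b := b) hb
  have d' := fun b hb => h'.dich a' (b := b) hb
  rw [← e] at d'
  have cm := h.cm W a
  generalize hl : W ⊓ C[T] = l at *
  have l1 : l ≤ W := hl ▸ inf_le_left
  have l2 : l ≤ W' := e ▸ inf_le_left
  have nl : ∀ {U b}, l ≤ U → b ∈ C[U] → b ∈ N[l] := fun i j => C_le_N l (centS i j)
  let R := ⨆ b : B, BG.cj (b : G) l
  have R1 : R ≤ sSup 𝒱 := iSup_le fun b => (cj_mono _ l1).trans (le_sSup (h.perm b b.2 W a))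
  have R2 : R ≤ sSup 𝒱' := iSup_le fun b => (cj_mono _ l2).trans (le_sSup (h'.perm b b.2 W' a'))
  have lR : ∀ b ∈ B, BG.cj b l ≤ R := fun b hb => le_iSup (fun b : B => BG.cj (b : G) l) ⟨b, hb⟩
  have lR' : l ≤ R := cj_one l ▸ lR 1 (one_mem B)
  have nR : B ≤ N[R] := fun y i => mem_N_of_cj_le (cj_le_iff.2 (iSup_le fun x => le_cj_iff.2 (by
    rw [inv_inv, ← cj_mul]; exact lR _ (mul_mem i x.2))))
  have aR := h.ab.of_le R1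
  have dd : ∀ b ∈ B, (b ∈ C[l] ∧ b ∈ N[R ⊓ (Oth 𝒱 W ⊓ Oth 𝒱' W')]) ∨
      BG.cj b l ≤ R ⊓ (Oth 𝒱 W ⊓ Oth 𝒱' W') := fun b hb => by
    rcases d b hb with i | i <;> rcases d' b hb with j | j
    · exact .inl ⟨centS l1 i.1, normI (zpowers_le.2 (nR hb)) (normI (zpowers_le.2 i.2) (zpowers_le.2 j.2))
        (mem_zpowers b)⟩
    · exact (j.2 (nl l1 i.1)).elim
    · exact (i.2 (nl l2 j.1)).elim
    · exact .inr (le_inf (lR b hb) (le_inf ((cj_mono b l1).trans i.1) ((cj_mono b l2).trans j.1)))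
  have k := diag (isProd_of_l (cents_norm (centSS aR inf_le_left lR')) (le_antisymm (sup_le lR' inf_le_left)
    (iSup_le fun b => (dd b b.2).elim (fun i => (cj_of_mem_C i.1).le.trans le_sup_left) fun i => i.trans le_sup_right)))
    (abel_norm aR inf_le_left) nR (coprimeS hc le_rfl R1) sB dd
  obtain ⟨w, w1, w2⟩ := exists_mem_ne_one (ne_bot_of_prime pl)
  obtain ⟨z, z1, f, f1, e1⟩ := (mem_sup_l (cents_norm (centSS aR inf_le_left inf_le_left))).1 (k (lR' w1))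
  have zw := eq_zpowers_of_prime pl w1 w2
  let P := ⨆ b : B, BG.cj (b : G) W
  have P1 : P ≤ sSup 𝒱 := iSup_le fun b => le_sSup (h.perm b b.2 W a)
  have RP : R ≤ P := iSup_mono fun b => cj_mono _ l1
  have nP : ∀ x, (∀ W' ∈ 𝒱, x ∈ N[W']) → x ∈ N[P] := fun x i =>
    norm_iSup (fun b : B => zpowers_le.2 (i _ (h.perm b b.2 W a))) (mem_zpowers x)
  have nF : ∀ {𝒱 : Set (Subgroup G)} {W} x, (∀ W' ∈ 𝒱, x ∈ N[W']) → x ∈ N[Oth 𝒱 W] := fun x i =>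
    norm_sSup (fun U j => zpowers_le.2 (i U j.1)) (mem_zpowers x)
  have ind : ∀ v ∈ P, v ∈ C[B] → v ∈ Oth 𝒱 W → v = 1 := fun v i j m =>
    h.indep (s := Set.range fun b : B => BG.cj (b : G) W) (by rintro _ ⟨b, rfl⟩; exact h.perm b b.2 W a) v
      (sSup_range (f := fun b : B => BG.cj (b : G) W) ▸ i) (by
      rintro _ ⟨b, rfl⟩
      refine cj_Oth (h.perm b b.2) (mem_cj.2 ?_)
      rwa [mul_assoc, ← mem_C.1 j b b.2, inv_mul_cancel_left])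
  have zΘ : z ∈ Θ := h.fix ⟨R1 z1.1, z1.2⟩
  have t : c' * z * c'⁻¹ ∈ T := h1 (conj_mem (norm_sSup (fun U j => zpowers_le.2 (c2' U j)) (mem_zpowers c')) (R2 z1.1))
  have t' : ∀ U ∈ 𝒱, c' * z * c'⁻¹ ∈ N[U] := fun U j => h.norm j t
  have x1 : c * w * c⁻¹ ∈ W := conj_mem (c2 W a) (l1 w1)
  have x2 : c' * w * c'⁻¹ ∈ W' := conj_mem (c2' W' a') (l2 w1)
  have y1 : c * f * c⁻¹ ∈ Oth 𝒱 W := conj_mem (nF c c2) f1.2.1
  have y2 : c' * f * c'⁻¹ ∈ Oth 𝒱' W' := conj_mem (nF c' c2') f1.2.2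
  have cO : Oth 𝒱' W' ≤ C[W] := sSup_le fun U j => by_contra fun m => j.2 (h'.eq a' j.1 (ne_bot_of_prime pl) l2
    (hl.ge.trans ((h.meet h'.toPS h1 h2 a j.1 m).le.trans inf_le_left)))
  have zz : z = w * f⁻¹ := by rw [e1, mul_inv_cancel_right]
  set x := c * w * c⁻¹ with hx
  set y := c * f * c⁻¹ with hy
  set s := c' * z * c'⁻¹ with hs
  have u1 : x * s * x⁻¹ * s⁻¹ ∈ l := cm (comm_mem x1 t)
  have u2 : x * s * x⁻¹ * s⁻¹ ≠ 1 := fun m => hn (c3'.trans (sup_le (cent_symm (c3.trans (sup_le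
    (centSS h.ab (l1.trans (le_sSup a)) (l1.trans (le_sSup a)))
    (centSS h.ab ((cj_le_of_mem l1 (c2 W a)).trans (le_sSup a)) (l1.trans (le_sSup a)))))) (cent_symm (c3.trans
    (sup_le (centSS h'.ab (l2.trans (le_sSup a')) ((cj_le_of_mem l2 (c2' W' a')).trans (le_sSup a'))) (by
      rw [← zw, cj_zpowers, cj_zpowers, C_zpowers, zpowers_le, mem_C1, ← hx]
      have : c' * w * c'⁻¹ = s * (c' * f * c'⁻¹) := by rw [hs, e1]; group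
      rw [mul_inv_eq_one, mul_inv_eq_iff_eq_mul] at m
      rw [this, mul_assoc s, ← mem_C.1 (cO y2) x x1, ← mul_assoc x, m, mul_assoc s]))))))
  have e2 : c * z * c⁻¹ = x * y⁻¹ := by rw [zz, hx, hy]; group
  have e3 : (c * z * c⁻¹) * s * (c * z * c⁻¹)⁻¹ * s⁻¹ = (x * s * x⁻¹ * s⁻¹) * (y⁻¹ * (s * y * s⁻¹)) := by
    have o := fun {p q} i j => mem_C_comm (x := p) (y := q) h.ab i j
    have x3 : s * x⁻¹ * s⁻¹ ∈ sSup 𝒱 := le_sSup a (conj_mem (t' W a) (inv_mem x1))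
    have y3 := Oth_le 𝒱 W (conj_mem (nF s t') y1)
    calc _ = x * (y⁻¹ * (s * y * s⁻¹) * (s * x⁻¹ * s⁻¹)) := by rw [e2]; group
      _ = _ := by rw [o (mul_mem (inv_mem (Oth_le 𝒱 W y1)) y3) x3]; group
  let M := ⨆ g : Θ, BG.cj (g : G) (zpowers z)
  have mM : ∀ g ∈ Θ, g * z * g⁻¹ ∈ M := fun g i =>
    le_iSup (fun g : Θ => BG.cj (g : G) (zpowers z)) ⟨g, i⟩ (mem_cj_conj.2 (mem_zpowers z))
  have nM : Θ ≤ N[M] := fun y i => mem_N_of_cj_le (cj_le_iff.2 (iSup_le fun x => le_cj_iff.2 (by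
    rw [inv_inv, ← cj_mul]; exact le_iSup_of_le ⟨_, mul_mem i x.2⟩ le_rfl)))
  have MΘ : M ≤ Θ := iSup_le fun g => cj_le_of_mem (zpowers_le.2 zΘ) (normG Θ g.2)
  have m1 := comm_mem (mM c c1) (mM c' c1')
  have p1 : c * z * c⁻¹ ∈ P := conj_mem (nP c c2) (RP z1.1)
  have p2 := commL (zpowers_le.2 (nP s t')) (comm_mem p1 (mem_zpowers s))
  rw [← hs] at m1
  generalize (c * z * c⁻¹) * s * (c * z * c⁻¹)⁻¹ * s⁻¹ = r at *
  have v1 : l ≤ zpowers r ⊔ Oth 𝒱 W := by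
    rw [← eq_zpowers_of_prime pl u1 u2, zpowers_le, eq_mul_inv_of_mul_eq e3.symm]
    exact mul_mem_sup' (mem_zpowers r) (inv_mem (mul_mem (inv_mem y1) (conj_mem (nF s t') y1)))
  obtain ⟨r', r1, o, o1, e4⟩ := (mem_sup_l (cents_norm (centSS h.ab (Oth_le 𝒱 W) (zpowers_le.2 (P1 p2))))).1
    (zz ▸ mul_mem (v1 w1) (mem_sup_right (inv_mem f1.2.1)) : z ∈ zpowers r ⊔ Oth 𝒱 W)
  have r2 := zpowers_le.2 m1 r1
  have o2 : o = r'⁻¹ * z := by rw [e4, inv_mul_cancel_left]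
  obtain rfl := ind o (o2 ▸ mul_mem (inv_mem (zpowers_le.2 p2 r1)) (RP z1.1))
    (o2 ▸ mul_mem (inv_mem (hΘ (MΘ (der_le M r2)))) z1.2) o1
  have M0 : M = ⊥ := by_contra fun i => ((sΘ.of_le MΘ).der_lt i).not_ge (iSup_le fun g =>
    cj_le_of_mem (zpowers_le.2 (by rwa [e4, mul_one])) (normD nM g.2))
  have z0 : z = 1 := by simpa [M0] using mM 1 (one_mem Θ)
  refine w2 (mem_bot.1 ((h.ind W a).le ⟨l1 w1, ?_⟩))
  rw [e1, z0, one_mul]; exact f1.2.1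

end PSB

end Cfsg.Agent.Fac
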