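import Cfsg.Agent.BG.S01
import Cfsg.Agent.Core.Subnormal
/-!
Pairs of subnormal subgroups acting on an elementary abelian group.
-/
set_option autoImplicit false
set_option linter.unusedSectionVars false

namespace Cfsg.Agent.Fac
open Subgroup Cfsg.Agent.BG PHom
open Cfsg.Agent.Comp (SubIn)

variable {G : Type*} [Group G] [Finite G] {A B D E H K U V W : Subgroup G} {p : ℕ} {x : G} {π : Set ℕ}

theorem O_le_of_subIn (h : SubIn K H) : O[π](K) ≤ O[π](H) := by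
  induction h with
  | refl => exact le_rfl
  | step h1 h2 _ ih => exact (O_le_of_normal π h1 h2).trans ih

theorem le_O_of_subIn (h : SubIn K H) (h1 : PiG π K) : K ≤ O[π](H) := (O_eq_self h1).ge.trans (O_le_of_subIn h)

theorem subIn_cj (h : SubIn K H) (hx : x ∈ H) : SubIn (cj x K) H := by
  have := h.map (MulAut.conj x).toMonoidHom
  rwa [← cj_def, ← cj_def, cj_of_mem hx] at this

theorem stab_pig (hU : PiG π U) (h1 : ⁅V, D⁆ ≤ U) (h2 : U ≤ C[D]) (h3 : D ⊓ C[V] = ⊥) : PiG π D :=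
  pig_of_prime_elts fun x hx h => by
    by_contra hn
    have a : V ≤ C[zpowers x] := cop_stable (L := U) (PiN.coprime' (pig_zpowers.2 ((pin_prime h).2 hn)) hU)
      ((commS le_rfl (zpowers_le.2 hx)).trans h1) (h2.trans (centS (zpowers_le.2 hx)))
    have : x ∈ D ⊓ C[V] := ⟨hx, cent_symm a (mem_zpowers x)⟩
    rw [h3, mem_bot] at this
    rw [this, orderOf_one] at h
    exact Nat.not_prime_one h

theorem norm_comm_sup (hA : A ≤ N[V]) (hB : B ≤ N[V]) : A ⊔ B ≤ N[⁅V, A⁆ ⊔ ⁅V, B⁆] :=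
  sup_le (norm_of_comm_le le_sup_left (sup_le (commL hA) (commL hB)))
    (norm_of_comm_le le_sup_right (sup_le (commL hA) (commL hB)))

theorem comm_sup_eq (hA : A ≤ N[V]) (hB : B ≤ N[V]) : ⁅V, A ⊔ B⁆ = ⁅V, A⁆ ⊔ ⁅V, B⁆ :=
  le_antisymm (comm_sup_le' le_sup_left le_sup_right (le_sup_left.trans (norm_comm_sup hA hB))
    (le_sup_right.trans (norm_comm_sup hA hB))) (sup_le (commS le_rfl le_sup_left) (commS le_rfl le_sup_right))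

theorem comm_le_O (hV : PiG π V) (nV : H ≤ N[V]) (hf : H ⊓ C[V] = ⊥) (hA : SubIn A H) (hB : SubIn B H)
    (h : ⁅⁅V, A⁆, B⁆ = ⊥) : ⁅A, B⁆ ≤ O[π](H) := by
  have c := comm_eq_bot'.1 h
  have a : ⁅A, B⁆ ≤ A ⊔ B := comm_le le_sup_left le_sup_right
  have s := Core.subIn_sup hA hB
  refine le_O_of_subIn ((SubIn.of_normal a (sup_le (comm_norml _ _) (comm_normr _ _))).trans s)
    (stab_pig (V := V) (hV.of_le (commL (hA.le.trans nV))) ?_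
      (cent_symm ((commS le_rfl c).trans (commR (normC (comm_normr _ _)))))
      (eq_bot_iff.2 ((inf_le_inf_right _ (a.trans s.le)).trans hf.le)))
  rw [commC]
  exact three_subgroup_mod (cents_norm c) (comm_norml _ _) (comm_normr _ _) (commS (commR (hB.le.trans nV)) le_rfl)
    (h.le.trans bot_le)

def Irr (U E : Subgroup G) : Prop := ∀ W ≤ U, E ≤ N[W] → W = ⊥ ∨ W = U

theorem Irr.cj (h : Irr U E) (x : G) : Irr (cj x U) (cj x E) := fun W h1 h2 => by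
  rcases h (BG.cj x⁻¹ W) (by rwa [← le_cj_iff]) (by rwa [← norm_cj (g := x), cj_cj_inv]) with e | e
  · exact .inl (cj_eq_bot.1 e)
  · exact .inr (by rw [← e, cj_cj_inv])

structure Pair (p : ℕ) (V A B : Subgroup G) : Prop where
  nV : A ⊔ B ≤ N[V]
  faith : (A ⊔ B) ⊓ C[V] = ⊥
  sA : SubIn A (A ⊔ B)
  sB : SubIn B (A ⊔ B)
  O : O[{p}](A ⊔ B) = ⊥
  iA : Irr ⁅V, A⁆ A
  iB : Irr ⁅V, B⁆ B
  nAB : ¬ ⁅V, A⁆ ≤ ⁅V, B⁆
  nBA : ¬ ⁅V, B⁆ ≤ ⁅V, A⁆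
  cA : 2 < #A
  cB : 2 < #B

theorem Pair.symm (h : Pair p V A B) : Pair p V B A := by
  obtain ⟨a, b, c, d, e, f, g, i, j, k, l⟩ := h
  rw [sup_comm A B] at a b c d e
  exact ⟨a, b, d, c, e, g, f, j, i, l, k⟩

theorem Pair.nA (h : Pair p V A B) : A ≤ N[V] := le_sup_left.trans h.nV
theorem Pair.nB (h : Pair p V A B) : B ≤ N[V] := le_sup_right.trans h.nV

theorem Pair.eq_bot (h : Pair p V A B) (hV : PiG {p} V) (h1 : SubIn D (A ⊔ B)) (h2 : ⁅V, D⁆ ≤ U) (h3 : U ≤ V)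
    (h4 : U ≤ C[D]) : D = ⊥ :=
  eq_bot_iff.2 ((le_O_of_subIn h1 (stab_pig (hV.of_le h3) h2 h4
    (eq_bot_iff.2 ((inf_le_inf_right _ h1.le).trans h.faith.le)))).trans h.O.le)

theorem Pair.faithA (h : Pair p V A B) (hV : PiG {p} V) : A ⊓ C[⁅V, A⁆] = ⊥ :=
  h.eq_bot hV ((SubIn.of_normal inf_le_left (normI (normG _) (normC (comm_normr _ _)))).trans h.sA)
    (commS le_rfl inf_le_left) (commL h.nA) (cent_symm inf_le_right)

theorem Pair.of_norm (h : Pair p V A B) (hV : PiG {p} V) (hn : B ≤ N[⁅V, A⁆]) :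
    ⁅A, B⁆ = ⊥ ∧ ⁅V, A⁆ ⊓ ⁅V, B⁆ = ⊥ := by
  have a : ⁅V, A⁆ ⊓ ⁅V, B⁆ = ⊥ :=
    (h.iB _ inf_le_right (normI hn (comm_normr _ _))).resolve_right fun e => h.nBA (e.ge.trans inf_le_left)
  exact ⟨eq_bot_iff.2 ((comm_le_O hV h.nV h.faith h.sA h.sB
    (eq_bot_iff.2 ((le_inf (commL hn) (commS (commL h.nA) le_rfl)).trans a.le))).trans h.O.le), a⟩

theorem cent_of_comm (nA : A ≤ N[V]) (nB : B ≤ N[V]) (h1 : ⁅A, B⁆ = ⊥) (h2 : ⁅V, A⁆ ⊓ ⁅V, B⁆ = ⊥) : ⁅V, A⁆ ≤ C[B] :=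
  comm_eq_bot.1 (eq_bot_iff.2 ((le_inf (commL (normR nB (cents_norm (comm_eq_bot'.1 h1))))
    (commS (commL nA) le_rfl)).trans h2.le))

theorem Pair.cj (h : Pair p V A B) (hx : x ∈ B) (hn : x ∉ N[⁅V, A⁆]) :
    Pair p V A (cj x A) ∧ A ⊔ cj x A < A ⊔ B := by
  have xE : x ∈ A ⊔ B := mem_sup_right hx
  have s := subIn_cj h.sA xE
  have s2 := Core.subIn_sup h.sA s
  have e : ⁅V, BG.cj x A⁆ = BG.cj x ⁅V, A⁆ := by rw [cj_comm, cj_of_mem_N (h.nV xE)]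
  refine ⟨⟨s2.le.trans h.nV, eq_bot_iff.2 ((inf_le_inf_right _ s2.le).trans h.faith.le),
    h.sA.restrict le_sup_left s2.le, s.restrict le_sup_right s2.le, eq_bot_iff.2 ((O_le_of_subIn s2).trans h.O.le),
    h.iA, e ▸ h.iA.cj x, fun a => hn ?_, fun a => hn (mem_N_of_cj_le (e ▸ a)), h.cA, by rw [card_cj]; exact h.cA⟩, ?_⟩
  · rw [e] at a
    exact mem_N_iff_cj.2 (eq_of_card_le a (card_cj _ _).le).symm
  · rcases h.sA.eq_or_exists with a | ⟨N, a, b, c⟩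
    · exact (h.nBA (commS le_rfl (le_sup_right.trans a.ge))).elim
    · exact (sup_le c.le (cj_le_of_mem c.le (b xE))).trans_lt a

theorem Pair.dprod (h : Pair p V A B) (hV : Abelem p V) (hp : p.Prime) : ⁅A, B⁆ = ⊥ ∧ ⁅V, A⁆ ⊓ ⁅V, B⁆ = ⊥ := by
  have pV := hV.pig hp
  generalize hE : A ⊔ B = E
  induction E using lt_wf_ind generalizing A B with | _ E ih =>
  have key : ∀ {A B}, Pair p V A B → A ⊔ B = E → ∀ x ∈ B, x ∉ N[⁅V, A⁆] →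
      Dprod ⁅V, A⁆ (BG.cj x ⁅V, A⁆) (⁅V, A⁆ ⊔ BG.cj x ⁅V, A⁆) ∧ BG.cj x ⁅V, A⁆ ≤ C[A] := fun {A B} h hE x hx hn => by
    obtain ⟨a, b⟩ := h.cj hx hn
    obtain ⟨c, d⟩ := ih _ (hE ▸ b) a rfl
    have e : ⁅V, BG.cj x A⁆ = BG.cj x ⁅V, A⁆ := by rw [cj_comm, cj_of_mem_N (h.nB hx)]
    rw [← e]
    exact ⟨⟨rfl, d, centSS hV.abel (commL a.nB) (commL a.nA)⟩,
      cent_of_comm a.nB a.nA (by rwa [commC]) (by rwa [inf_comm])⟩
  by_cases h1 : B ≤ N[⁅V, A⁆]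
  · exact h.of_norm pV h1
  by_cases h2 : A ≤ N[⁅V, B⁆]
  · rw [commC A, inf_comm]; exact h.symm.of_norm pV h2
  exfalso
  obtain ⟨x, xB, hx⟩ := SetLike.not_le_iff_exists.1 h1
  obtain ⟨y, yA, hy⟩ := SetLike.not_le_iff_exists.1 h2
  have nW := norm_comm_sup h.nA h.nB
  have le1 : ∀ x ∈ B, ⁅V, A⁆ ⊔ BG.cj x ⁅V, A⁆ ≤ ⁅V, A⁆ ⊔ ⁅V, B⁆ := fun x hx =>
    sup_le le_sup_left (cj_le_of_mem le_sup_left (nW (mem_sup_right hx)))
  have c1 := card_le (le1 x xB)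
  have c2 := card_le (sup_le le_sup_right (cj_le_of_mem le_sup_right (nW (mem_sup_left yA))))
  rw [← (key h hE x xB hx).1.card, card_cj] at c1
  rw [← (key h.symm (sup_comm B A ▸ hE) y yA hy).1.card, card_cj] at c2
  have c3 := (isProd_l (cents_norm (centSS hV.abel (commL h.nB) (commL h.nA)))).card
  have p1 := card_pos ⁅V, A⁆
  have p2 := card_pos ⁅V, B⁆
  have p3 := card_pos (⁅V, A⁆ ⊓ ⁅V, B⁆)
  have c4 : #(⁅V, A⁆ ⊔ ⁅V, B⁆) ≤ #⁅V, A⁆ * #⁅V, B⁆ := c3 ▸ Nat.le_mul_of_pos_right _ p3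
  have c5 : #⁅V, A⁆ = #⁅V, B⁆ :=
    le_antisymm (Nat.le_of_mul_le_mul_left (c1.trans c4) p1) (Nat.le_of_mul_le_mul_right (c2.trans c4) p2)
  rw [← c5] at c3 c4
  have i : ⁅V, A⁆ ⊓ ⁅V, B⁆ = ⊥ := by
    rw [le_antisymm c4 c1] at c3
    exact card_eq_one.1 (Nat.eq_of_mul_eq_mul_left (Nat.mul_pos p1 p1) (by rw [c3, mul_one]))
  have z : ⁅V, A⁆ ⊓ C[A] = ⊥ := (h.iA _ inf_le_left (normI (comm_normr _ _) (normC (normG _)))).resolve_right fun e => by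
    have := h.cA
    rw [← inf_eq_left.2 (cent_symm (e.ge.trans inf_le_right)), h.faithA pV, card_bot'] at this
    omega
  have eW : ∀ x ∈ B, x ∉ N[⁅V, A⁆] → ⁅V, A⁆ ⊔ BG.cj x ⁅V, A⁆ = ⁅V, A⁆ ⊔ ⁅V, B⁆ := fun x xB hx =>
    eq_of_card_le (le1 x xB) (by rwa [← (key h hE x xB hx).1.card, card_cj])
  have eZ : ∀ x ∈ B, x ∉ N[⁅V, A⁆] → BG.cj x ⁅V, A⁆ = (⁅V, A⁆ ⊔ ⁅V, B⁆) ⊓ C[A] := fun x xB hx => by
    rw [← eW x xB hx, modr_l (key h hE x xB hx).1.sd.norm (key h hE x xB hx).2, z, bot_sup_eq]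
  have nb : B ⊓ N[⁅V, A⁆] = ⊥ := by
    have cc : ∀ U ≤ V, B ⊓ N[⁅V, A⁆] ≤ N[U] → U ⊓ ⁅V, B⁆ = ⊥ → B ⊓ N[⁅V, A⁆] ≤ C[U] := fun U a b c =>
      comm_eq_bot'.1 (eq_bot_iff.2 ((le_inf (commL b) (commS a inf_le_left)).trans c.le))
    refine eq_bot_iff.2 ((le_inf inf_le_left (le_trans ?_ (centS (le_sup_right.trans (eW x xB hx).ge)))).trans
      (h.symm.faithA pV).le)
    refine centY (cc _ (commL h.nA) inf_le_right i) (cc _ (cj_le_of_mem (commL h.nA) (h.nB xB)) (fun n hn => ?_) ?_)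
    · rw [mem_N_iff_cj, ← cj_mul, eZ x xB hx, eZ _ (mul_mem (mem_inf.1 hn).1 xB) fun a =>
        hx ((mul_mem_cancel_left (mem_inf.1 hn).2).1 a)]
    · rw [← cj_of_mem_N (comm_normr V B xB), ← cj_inf, i, cj_bot]
  have sub : (B : Set G) ⊆ {1, x} := fun g hg => by
    by_cases a : g ∈ N[⁅V, A⁆]
    · exact .inl (mem_bot.1 (nb.le ⟨hg, a⟩))
    · refine .inr (inv_mul_eq_one.1 (mem_bot.1 (nb.le (mem_inf.2 ⟨mul_mem (inv_mem xB) hg, ?_⟩)))).symm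
      rw [mem_N_iff_cj, cj_mul, eZ g hg a, ← eZ x xB hx, cj_inv_cj]
  have := (Set.ncard_le_ncard sub).trans (Set.ncard_insert_le _ _)
  rw [Set.ncard_singleton] at this
  exact h.cB.not_ge this

theorem Pair.inf (h : Pair p V A B) (hV : Abelem p V) (hp : p.Prime) : A ⊓ B = ⊥ :=
  h.eq_bot (hV.pig hp) (h.sA.inf' h.sB) (commS le_rfl inf_le_left) (commL h.nA)
    ((cent_of_comm h.nA h.nB (h.dprod hV hp).1 (h.dprod hV hp).2).trans (centS inf_le_right))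

end Cfsg.Agent.Fac
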