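import Cfsg.Agent.Fac.SL
import Cfsg.Agent.Fac.Pair
import Cfsg.Agent.Comp.Hyper
import Cfsg.Agent.PLoc.Quad
/-!
Failure of factorization modules for groups with a self-centralizing `p'`-core.
-/
set_option autoImplicit false
set_option linter.unusedSectionVars false

namespace Cfsg.Agent.Fac
open Subgroup Cfsg.Agent.BG PHom
open Cfsg.Agent.Comp (SubIn)
open scoped MatrixGroups

variable {G : Type*} [Group G] [Finite G] {A B D E H K R S T U V W : Subgroup G} {p : ℕ} {x g : G}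

theorem norm_clos (R A : Subgroup G) : R ≤ N[⁅R, A⁆ ⊔ A] := fun r hr => mem_N_of_cj_le (by
  rw [cj_sup, cj_of_mem_N (comm_norml R A hr)]
  refine sup_le le_sup_left fun y hy => ?_
  obtain ⟨a, ha, rfl⟩ := exists_of_mem_cj hy
  simpa using mul_mem_sup' (comm_mem hr ha) ha)

/-- the elements acting trivially on `V / W` -/
def St (V W : Subgroup G) : Subgroup G := (quo W).pre C[V ÷ W]

theorem le_St (h1 : W ≤ V) (h2 : V ≤ N[W]) : A ≤ St V W ↔ ⁅V, A⁆ ≤ W := by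
  refine ⟨fun h => ?_, fun h => ?_⟩
  · have a : A ≤ N[W] := h.trans (pre_le_dom _)
    rw [commC, ← quo_cent_iff a h2]; exact (le_pre_iff a).1 h
  · have a := norm_of_comm_le h h1
    rw [commC, ← quo_cent_iff a h2] at h; exact (le_pre_iff a).2 h

structure FF (p : ℕ) (V H : Subgroup G) : Prop where
  ab : Abelem p V
  nV : H ≤ N[V]
  faith : H ⊓ C[V] = ⊥
  cQ : H ⊓ C[O[{p}ᶜ](H)] ≤ O[{p}ᶜ](H)

/-- `A` is a group of transvections of order `p` -/
structure TV (p : ℕ) (V H A : Subgroup G) : Prop where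
  le : A ≤ H
  card : #A = p
  idx : p * #(V ⊓ C[A]) = #V

theorem TV.cj (h : TV p V H A) (h1 : g ∈ N[H]) (h2 : g ∈ N[V]) : TV p V H (cj g A) :=
  ⟨cj_le_of_mem h.le h1, by rw [card_cj, h.card], by
    rw [← cj_C, ← h.idx, ← card_cj g (V ⊓ C[A]), cj_inf, cj_of_mem_N h2]⟩

theorem FF.bot (h : FF p V H) (h1 : D ≤ H) (h2 : D ≤ C[V]) : D = ⊥ := eq_bot_iff.2 ((le_inf h1 h2).trans h.faith.le)

variable [hp : Fact p.Prime]

theorem TV.pig (h : TV p V H A) : PiG {p} A := pig_of_card' hp.out h.card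
theorem TV.prime (h : TV p V H A) : (#A).Prime := h.card ▸ hp.out
theorem TV.ne (h : TV p V H A) : A ≠ ⊥ := ne_bot_of_prime h.prime
theorem TV.abel (h : TV p V H A) : Abel A := (cyc_of_prime h.prime).abel
theorem FF.pig (h : FF p V H) : PiG {p} V := h.ab.pig hp.out

theorem FF.eq_bot (h : FF p V H) (h1 : D ≤ H) (h2 : PiG {p} D) (h3 : D ≤ C[O[{p}ᶜ](H)]) : D = ⊥ :=
  h2.eq_bot ((O_pig _ _).of_le ((le_inf h1 h3).trans h.cQ))

theorem FF.hyper (h : FF p V H) (h1 : A ≤ H) (hA : Abelem p A) (h2 : D ≤ A) (h3 : D ≠ ⊥) :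
    ∃ B ≤ A, B.relIndex A = p ∧ ¬ D ≤ B ∧ p * #(V ⊓ C[A]) ≤ #(V ⊓ C[B]) := by
  have pA := hA.pig hp.out
  have nQ := h1.trans (O_norm {p}ᶜ H)
  obtain ⟨B, b1, b2, b3⟩ := Comp.exists_hyperplane_not_le (H := C[D]) (abelem_iff.1 hA)
    (fun e => h3 (eq_bot_iff.2 (h2.trans e.le))) ((pin_compl_cop hp.out).1 (O_pig _ H)) nQ
    fun e => h3 (h.eq_bot (h2.trans h1) (pA.of_le h2) (cent_symm e))
  refine ⟨B, b1, b2, fun e => b3 (inf_le_right.trans (centS e)), ?_⟩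
  have a : V ⊓ C[A] ≤ V ⊓ C[B] := inf_le_inf_left _ (centS b1)
  rw [← card_mul_relIndex a, mul_comm]
  refine Nat.mul_le_mul_left _ (Nat.le_of_dvd (relIndex_pos _ _) ?_)
  obtain ⟨k, hk⟩ := (pin_single hp.out (relIndex_pos _ _).ne').1
    ((h.pig.of_le (inf_le_left (b := C[B]))).relIndex (V ⊓ C[A]))
  rw [hk]
  refine dvd_pow_self _ fun e => b3 ?_
  rw [e, pow_zero, relIndex_eq_one] at hk
  have nR : A ≤ N[O[{p}ᶜ](H) ⊓ C[B]] := normI nQ (normC (abel_norm hA.abel b1))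
  have RH : O[{p}ᶜ](H) ⊓ C[B] ≤ H := inf_le_left.trans (O_le _ _)
  have l := commL nR
  have := pq_lemma (L := V ⊔ B) (h.pig.sup_l (pA.of_le b1) (b1.trans (h1.trans h.nV))).nil le_sup_right le_sup_left
    (cent_symm (l.trans inf_le_right)) (PiN.coprime' ((O_pig _ H).of_le (l.trans inf_le_left)) h.pig)
    (b1.trans (h1.trans h.nV)) (l.trans (RH.trans h.nV))
    (cent_symm ((commS le_rfl (cent_symm (hk.trans inf_le_right))).trans
      (commR (normC (normI (RH.trans h.nV) (normC (cents_norm inf_le_right)))))))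
  exact (comm_eq_bot.1 (h.bot (l.trans RH) this)).trans (centS h2)

theorem lt_of_relIndex (h1 : B ≤ A) (h : B.relIndex A = p) : B < A :=
  h1.lt_of_ne fun e => by rw [e, relIndex_self] at h; exact hp.out.one_lt.ne h

theorem off_le_of (h1 : B ≤ A) (h : B.relIndex A = p) (h2 : p * #(V ⊓ C[A]) ≤ #(V ⊓ C[B])) :
    #A * #(V ⊓ C[A]) ≤ #B * #(V ⊓ C[B]) := by
  rw [← card_mul_relIndex h1, h, mul_assoc]; exact Nat.mul_le_mul_left _ h2

theorem FF.off_le (h : FF p V H) (h1 : A ≤ H) (hA : Abelem p A) : #A * #(V ⊓ C[A]) ≤ #V := by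
  induction A using lt_wf_ind with | _ A ih =>
  by_cases e : A = ⊥
  · rw [e, card_bot', C_bot, inf_top_eq, one_mul]
  obtain ⟨B, b1, b2, -, b3⟩ := h.hyper h1 hA le_rfl e
  exact (off_le_of b1 b2 b3).trans (ih B (lt_of_relIndex b1 b2) (b1.trans h1) (hA.of_le b1))

theorem FF.gen (h : FF p V H) (h1 : A ≤ H) (hA : Abelem p A) (h2 : #V ≤ #A * #(V ⊓ C[A]))
    (hK : ∀ T ≤ A, TV p V H T → T ≤ K) : A ≤ K := by
  induction A using lt_wf_ind with | _ A ih =>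
  by_cases e : A = ⊥
  · rw [e]; exact bot_le
  have key : ∀ B ≤ A, B.relIndex A = p → p * #(V ⊓ C[A]) ≤ #(V ⊓ C[B]) → B ≤ K := fun B b1 b2 b3 =>
    ih B (lt_of_relIndex b1 b2) (b1.trans h1) (hA.of_le b1) (h2.trans (off_le_of b1 b2 b3))
      fun T a => hK T (a.trans b1)
  obtain ⟨B, b1, b2, -, b3⟩ := h.hyper h1 hA le_rfl e
  by_cases e2 : B = ⊥
  · rw [e2, relIndex_bot_left] at b2
    exact hK A le_rfl ⟨h1, b2, b2 ▸ le_antisymm (h.off_le h1 hA) h2⟩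
  obtain ⟨D, d1, d2, d3, d4⟩ := h.hyper h1 hA b1 e2
  rcases eq_or_eq_of_relIndex_prime (d2 ▸ hp.out) (le_sup_left (b := B)) (sup_le d1 b1) with a | a
  · exact (d3 (le_sup_right.trans a.le)).elim
  · exact a.ge.trans (sup_le (key D d1 d2 d4) (key B b1 b2 b3))

theorem FF.best_ab (h : FF p V H) (h1 : A ≤ H) (hA : IsBestOffenderOn p V A) : Abelem p A :=
  ⟨abel_iff_der.2 (h.bot ((der_le A).trans h1) hA.2.1), fun a ha =>
    mem_bot.1 (h.faith.le ⟨pow_mem (h1 ha) p, hA.2.2 a ha⟩)⟩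

theorem best_ge (hA : IsBestOffenderOn p V A) : #V ≤ #A * #(V ⊓ C[A]) := by
  have := hA.1 ⊥ bot_le
  rwa [card_bot', C_bot, inf_top_eq, one_mul] at this

theorem TV.best (hA : TV p V H A) : IsBestOffenderOn p V A := by
  refine ⟨fun B hB => ?_, (abel_iff_der.1 hA.abel).le.trans bot_le, fun a ha => by
    rw [pow_eq_one_of_card hA.card ha]; exact one_mem _⟩
  rcases eq_bot_or_eq_of_prime hA.prime hB with rfl | rfl
  · rw [card_bot', C_bot, inf_top_eq, one_mul, hA.card, hA.idx]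
  · rfl

theorem TV.card_comm (hA : TV p V H A) (h : FF p V H) : #⁅V, A⁆ = p := by
  obtain ⟨a, e⟩ := cyc_iff.1 (cyc_of_prime hA.prime)
  have := PLoc.card_centralizer_mul_card_commutator h.ab.abel.comm (h.nV (hA.le (e.le (mem_zpowers a))))
  rw [e, ← hA.idx, mul_comm] at this
  exact Nat.eq_of_mul_eq_mul_right (card_pos _) this

theorem TV.comm_ne (hA : TV p V H A) (h : FF p V H) : ⁅V, A⁆ ≠ ⊥ := ne_bot_of_prime (hA.card_comm h ▸ hp.out)

/-- minimal best offenders -/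
def MinOff (p : ℕ) (V A : Subgroup G) : Prop :=
  IsBestOffenderOn p V A ∧ ⁅V, A⁆ ≠ ⊥ ∧ ∀ B ≤ A, IsBestOffenderOn p V B → ⁅V, B⁆ ≠ ⊥ → B = A

theorem TV.min (hA : TV p V H A) (h : FF p V H) : MinOff p V A :=
  ⟨hA.best, hA.comm_ne h, fun B a _ b => (eq_bot_or_eq_of_prime hA.prime a).resolve_left fun e => b (by simp [e])⟩

theorem FF.tv (h : FF p V H) (h1 : A ≤ H) (hA : MinOff p V A) : TV p V H A := by
  by_contra hn
  have := h.gen (K := ⊥) h1 (h.best_ab h1 hA.1) (best_ge hA.1) fun T a b =>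
    (hn (hA.2.2 T a b.best (b.comm_ne h) ▸ b)).elim
  exact hA.2.1 (by simp [eq_bot_iff.2 this])

theorem FF.exists_indep (h : FF p V H) (h1 : A ≤ H) (hA : IsBestOffenderOn p V A) :
    ∃ (k : ℕ) (B : Fin k → Subgroup G), (∀ i, B i ≤ A ∧ TV p V H (B i)) ∧ iSupIndep B ∧ ⨆ i, B i = A := by
  classical
  have ex : ∃ n, ∃ s : Finset (Subgroup G), s.card = n ∧ (∀ T ∈ s, T ≤ A ∧ TV p V H T) ∧ A ≤ s.sup id :=
    ⟨_, (Set.toFinite {T | T ≤ A ∧ TV p V H T}).toFinset, rfl, fun T a => by simpa using a,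
      h.gen h1 (h.best_ab h1 hA) (best_ge hA) fun T a b => Finset.le_sup (f := id) (by simpa using ⟨a, b⟩)⟩
  obtain ⟨s, s1, s2, s3⟩ := Nat.find_spec ex
  let e := s.equivFin.symm
  have hs : ∀ K, (∀ i, (e i).1 ≤ K) → A ≤ K := fun K a => s3.trans (Finset.sup_le fun T b => by
    simpa using a (e.symm ⟨T, b⟩))
  refine ⟨_, fun i => e i, fun i => s2 _ (e i).2, iSupIndep_def.2 fun i => disjoint_iff.2
    (inf_bot_of_prime (s2 _ (e i).2).2.prime fun a => ?_), le_antisymm (iSup_le fun i => (s2 _ (e i).2).1)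
      (hs _ (le_iSup (fun i => (e i).1)))⟩
  have b : ∀ j, j ≠ i → (e j).1 ≤ (s.erase (e i)).sup id := fun j c => Finset.le_sup (f := id)
    (Finset.mem_erase.2 ⟨fun d => c (e.injective (Subtype.ext d)), (e j).2⟩)
  refine Nat.find_min ex ((Finset.card_erase_lt_of_mem (e i).2).trans_eq s1)
    ⟨_, rfl, fun T a => s2 T (Finset.mem_of_mem_erase a), hs _ fun j => ?_⟩
  by_cases c : j = i
  · exact c ▸ a.trans (iSup₂_le b)
  · exact b j c

/-- `R A` induces `SL(2, p)` on the plane `[V, R]` -/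
structure Plane (p : ℕ) (V H R A : Subgroup G) : Prop where
  ff : FF p V H
  tv : TV p V H A
  le : R ≤ H
  norm : A ≤ N[R]
  pig : PiG {p}ᶜ R
  comm : R ≤ ⁅R, A⁆
  ne : R ≠ ⊥
  card_le : #⁅V, R ⊔ A⁆ ≤ p ^ 2

namespace Plane
variable (h : Plane p V H R A) {φ : PHom G SL(2, ZMod p)}
include h

theorem sd : Sdprod R A (R ⊔ A) := sdprod_sup (h.pig.inf_bot' h.tv.pig) h.norm
theorem leE : R ⊔ A ≤ H := sup_le h.le h.tv.le
theorem nV : R ⊔ A ≤ N[V] := h.leE.trans h.ff.nV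
theorem nW : R ⊔ A ≤ N[⁅V, R⁆] := normR h.nV h.sd.nl
theorem leV : ⁅V, R⁆ ≤ V := commL (h.le.trans h.ff.nV)
theorem cop : (#R).Coprime #V := PiN.coprime' h.pig h.ff.pig

theorem faithR : R ⊓ C[⁅V, R⁆] = ⊥ :=
  h.ff.bot (inf_le_left.trans h.le) (cent_symm (cop_stable (coprimeS h.cop inf_le_left h.leV)
    (commS le_rfl inf_le_left) (cent_symm inf_le_right)))

theorem not_cent : ¬ A ≤ C[⁅V, R⁆] := fun a => h.ne (eq_bot_iff.2 ((le_inf le_rfl
  (h.comm.trans ((commS le_rfl a).trans (commR (normC (comm_normr _ _)))))).trans h.faithR.le))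

theorem card_W : #⁅V, R⁆ = p ^ 2 := by
  obtain ⟨k, hk⟩ := (h.ff.pig.of_le h.leV).card_pow hp.out
  have a := (BG.card_le (commS le_rfl le_sup_left)).trans h.card_le
  rw [hk] at a ⊢
  have := (Nat.pow_le_pow_iff_right hp.out.one_lt).1 a
  interval_cases k
  · exact (h.not_cent (by rw [card_eq_one.1 hk, C_bot]; exact le_top)).elim
  · exact (h.not_cent (h.tv.pig.cent_of_prime hp.out (by simpa using hk) (le_sup_right.trans h.nW))).elim
  · rfl

theorem eq : ⁅V, R ⊔ A⁆ = ⁅V, R⁆ := (eq_of_card_le (commS le_rfl le_sup_left) (h.card_W ▸ h.card_le)).symm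

theorem pn : PnElem p 2 ⁅V, R⁆ ⁅V, R⁆ := ⟨le_rfl, h.ff.ab.of_le h.leV, h.card_W⟩

theorem faith : (R ⊔ A) ⊓ C[⁅V, R⁆] = ⊥ := by
  have a : (R ⊔ A) ⊓ C[⁅V, R⁆] ≤ A := (h.sd.hall_r h.pig h.tv.pig).le_of_norm'
    (stab_pig (V := V) (h.ff.pig.of_le h.leV) ((commS le_rfl inf_le_left).trans h.eq.le) (cent_symm inf_le_right)
      (h.ff.bot (inf_le_left.trans (inf_le_left.trans h.leE)) inf_le_right)) inf_le_left
    (normI (normsG le_sup_right) (normC (le_sup_right.trans h.nW)))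
  exact (eq_bot_or_eq_of_prime h.tv.prime a).resolve_right fun e => h.not_cent (e.ge.trans inf_le_right)

theorem dom (f : SLrep ⁅V, R⁆ φ) : R ⊔ A ≤ φ.dom := by
  have a := f.le (le_sup_right.trans h.nW) h.tv.card
  refine sup_le (h.comm.trans (comm_le_iff.2 fun r hr b hb => mul_mem ?_ (inv_mem (a hb)))) a
  exact f.le ((cj_le_of_mem le_sup_right (normG _ (mem_sup_left hr))).trans h.nW) (by rw [card_cj, h.tv.card])
    (mem_cj_conj.2 hb)

theorem im_top (f : SLrep ⁅V, R⁆ φ) : φ.im (R ⊔ A) = ⊤ := by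
  have : ¬ R ≤ C[A] := fun a => h.ne (eq_bot_iff.2 (h.comm.trans (comm_eq_bot.2 a).le))
  obtain ⟨r, hr, hr'⟩ := SetLike.not_le_iff_exists.1 this
  have a := cj_le_of_mem (le_sup_right (b := A)) (normG _ (mem_sup_left hr))
  refine f.im_top (h.dom f) le_sup_right a h.tv.card (by rw [card_cj, h.tv.card]) h.not_cent fun b => hr' ?_
  have c := le_inf b a
  rw [modl_r (normC (le_sup_right.trans h.nW)) le_sup_right, inf_comm, h.faith, sup_bot_eq] at c
  exact ((inf_N_eq_inf_C h.norm (inf_comm A R ▸ h.sd.inf)).le ⟨hr, mem_N_of_cj_le c⟩).2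

theorem equiv : Nonempty (↥(R ⊔ A) ≃* SL(2, ZMod p)) := by
  obtain ⟨φ, f⟩ := exists_slrep h.pn
  exact f.equiv (h.dom f) (h.im_top f) h.faith

theorem card_R : #R = p ^ 2 - 1 := by
  obtain ⟨e⟩ := h.equiv
  have := h.sd.card
  rw [Nat.card_congr e.toEquiv, card_sl2, h.tv.card, mul_comm] at this
  exact Nat.eq_of_mul_eq_mul_left hp.out.pos this

theorem der : ⁅R ⊔ A, R ⊔ A⁆ ≤ R :=
  der_sup_le (der_le R) ((abel_iff_der.1 h.tv.abel).le.trans bot_le) (commL h.norm) (normG R) h.norm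

theorem two_or_three : p = 2 ∨ p = 3 := by
  obtain ⟨φ, f⟩ := exists_slrep h.pn
  refine Fac.two_or_three ?_
  rw [← h.im_top f, ← im_der (h.dom f)]
  exact (h.pig.of_le h.der).im φ

theorem not_abel (e : p = 3) : ¬ Abel R := fun a => by
  subst e
  obtain ⟨φ, f⟩ := exists_slrep h.pn
  refine der_sl2_three ?_
  rw [← h.im_top f, ← im_der (h.dom f)]
  exact (a.of_le h.der).im φ

theorem two_lt : 2 < #R := by
  rw [h.card_R]; rcases h.two_or_three with rfl | rfl <;> norm_num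

theorem irr : Irr ⁅V, R⁆ R := fun U h1 h2 => by
  by_contra hn
  push Not at hn
  have c := card_sub_of_sq hp.out h.card_W (h1.lt_of_ne hn.2) hn.1
  obtain ⟨U', d, n⟩ := maschke hp.out h.pn.ab h1 (comm_normr _ _) h2 h.pig
  have c' := d.card
  rw [c, h.card_W, pow_two] at c'
  have a := Nat.le_of_dvd (Nat.sub_pos_of_lt hp.out.one_lt) (idx_cent_prime hp.out c h2)
  have b := Nat.le_of_dvd (Nat.sub_pos_of_lt hp.out.one_lt)
    (idx_cent_prime hp.out (Nat.eq_of_mul_eq_mul_left hp.out.pos c') n)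
  have e := (relIndex_inf_le (H := C[U]) (K := C[U']) (L := R)).trans (Nat.mul_le_mul a b)
  rw [← C_sup, d.sup, ← inf_relIndex_right, inf_comm, h.faithR, relIndex_bot_left, h.card_R] at e
  revert e
  rcases h.two_or_three with rfl | rfl <;> norm_num

theorem inf_C : ⁅V, R⁆ ⊓ C[R] = ⊥ := cop_abel_C_comm h.ff.ab.abel (h.le.trans h.ff.nV) h.cop

theorem cent : V ⊓ C[R ⊔ A] = V ⊓ C[R] := by
  refine le_antisymm (inf_le_inf_left _ (centS le_sup_left)) (le_inf inf_le_left (centY inf_le_right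
    (comm_eq_bot.1 (eq_bot_iff.2 ((le_inf ?_ ?_).trans h.inf_C.le)))))
  · exact (commS inf_le_left le_sup_right).trans h.eq.le
  · exact (commL (normI (h.tv.le.trans h.ff.nV) (normC h.norm))).trans inf_le_right

theorem dprod : Dprod (V ⊓ C[R ⊔ A]) ⁅V, R⁆ V := h.cent ▸ cop_abel_dprod h.ff.ab.abel (h.le.trans h.ff.nV) h.cop

theorem cmp (h' : Plane p V H S B) (s1 : SubIn R (R ⊔ S)) (s2 : SubIn S (R ⊔ S)) (h1 : PiG {p}ᶜ (R ⊔ S)) :
    ⁅V, R⁆ = ⁅V, S⁆ ∨ (⁅R, S⁆ = ⊥ ∧ ⁅V, R⁆ ⊓ ⁅V, S⁆ = ⊥) := by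
  by_cases a : ⁅V, R⁆ ≤ ⁅V, S⁆
  · exact .inl (eq_of_card_le a (by rw [h.card_W, h'.card_W]))
  by_cases b : ⁅V, S⁆ ≤ ⁅V, R⁆
  · exact .inl (eq_of_card_le b (by rw [h.card_W, h'.card_W])).symm
  have l := sup_le h.le h'.le
  exact .inr (Pair.dprod ⟨l.trans h.ff.nV, h.ff.bot (inf_le_left.trans l) inf_le_right, s1, s2, O_eq_bot h1, h.irr,
    h'.irr, a, b, h.two_lt, h'.two_lt⟩ h.ff.ab hp.out)

end Plane

end Cfsg.Agent.Fac
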