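import Cfsg.Agent.Fac.Str
import Cfsg.Agent.PLoc.PStable
/-!
Coprime operators on failure of factorization modules, and the passage to the holomorph.
-/
set_option autoImplicit false
set_option linter.unusedSectionVars false

namespace Cfsg.Agent.Fac
open Subgroup Cfsg.Agent.BG PHom
open Cfsg.Agent.PLoc (JOf maxEA VOm)
open scoped MatrixGroups

universe u
variable {G : Type u} [Group G] [Finite G] {A B D E F H K L P U V W X Y : Subgroup G} {p q : ℕ} {x g : G}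
  {π : Set ℕ}

theorem diag (hH : IsProd E F H) (nF : H ≤ N[F]) (nH : X ≤ N[H]) (hc : (#X).Coprime #H) (hs : Sol X)
    (hx : ∀ x ∈ X, (x ∈ C[E] ∧ x ∈ N[F]) ∨ cj x E ≤ F) : H ≤ (H ⊓ C[X]) ⊔ F := by
  classical
  refine hH.sup.ge.trans (sup_le (fun e he => ?_) le_sup_right)
  have key : ∀ s : Finset X, ∃ h ∈ H, ∀ x ∈ s, e⁻¹ * ((x : G)⁻¹ * h * x) ∈ F := fun s => by
    induction s using Finset.induction_on with
    | empty => exact ⟨1, one_mem _, by simp⟩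
    | insert y s _ ih =>
    obtain ⟨h, h1, h2⟩ := ih
    by_cases a : ∃ x ∈ s, (x : G)⁻¹ * y ∈ C[E] ∧ (x : G)⁻¹ * y ∈ N[F]
    · obtain ⟨x, a, b, c⟩ := a
      refine ⟨h, h1, Finset.forall_mem_insert _ _ _ |>.2 ⟨?_, h2⟩⟩
      have := conj_mem' c (h2 x a)
      rw [← mul_assoc _ e⁻¹, ← mem_C.1 (inv_mem b) _ (inv_mem he)] at this
      convert this using 1; group
    obtain ⟨e', a1, f, a2, a3⟩ := hH.ex _ (mul_mem (inv_mem (conj_mem' (nH y.2) h1)) (hH.left he))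
    refine ⟨h * (y * e' * (y : G)⁻¹), mul_mem h1 (conj_mem (nH y.2) (hH.left a1)),
      Finset.forall_mem_insert _ _ _ |>.2 ⟨?_, fun x b => ?_⟩⟩
    · convert inv_mem a2 using 1
      rw [← inv_mul_eq_iff_eq_mul.2 a3]; group
    · have := mul_mem (h2 x b) ((hx _ (mul_mem (inv_mem x.2) y.2)).resolve_left (fun c => a ⟨x, b, c⟩) (mem_cj_conj.2 a1))
      convert this using 1; group
  obtain ⟨h, h1, h2⟩ := key (Set.toFinite Set.univ).toFinset
  replace h2 := fun x hx => h2 ⟨x, hx⟩ (by simp)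
  let Y := ⨅ x : X, cj (x : G) F
  have mY : ∀ y, y ∈ Y ↔ ∀ x ∈ X, x⁻¹ * y * x ∈ F := fun y => by simp [Y, mem_iInf, mem_cj]
  have YF : Y ≤ F := fun y a => by simpa using (mY y).1 a 1 (one_mem _)
  have n1 : X ≤ N[Y] := le_N_iff.2 fun x a y b => (mY _).2 fun z c => by
    convert (mY _).1 b _ (mul_mem (inv_mem a) c) using 1; group
  have n2 : H ≤ N[Y] := norm_iInf fun x => by rw [← cj_of_mem_N (nH x.2), norm_cj]; exact nF
  have a : (quo Y).app h ∈ (H ⊓ C[X]) ÷ Y := by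
    rw [im_IC' n1 n2 (by simpa using YF.trans hH.right) (coprimeS hc le_rfl (by simpa using YF.trans hH.right)) (.inl hs)]
    refine ⟨app_mem_im h1 (n2 h1), mem_C.2 fun z b => ?_⟩
    obtain ⟨x, c, rfl⟩ := (mem_im' n1).1 b
    rw [← app_mul (n1 c) (n2 h1), ← app_mul (n2 h1) (n1 c), app_eq_iff (mul_mem (n1 c) (n2 h1)) (mul_mem (n2 h1) (n1 c)),
      quo_ker, mY]
    intro z d
    convert mul_mem (inv_mem (h2 z d)) (h2 _ (mul_mem c d)) using 1; group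
  have b := (pre_quo (inf_le_left.trans n2)).le (mem_pre.2 ⟨n2 h1, a⟩)
  convert mul_mem (sup_le_sup_left YF _ b) (inv_mem (mem_sup_right (h2 1 (one_mem _)))) using 1; group

theorem cent_compl (d : Dprod U W V) (d' : Dprod U Y V) (n1 : D ≤ N[U]) (n2 : D ≤ N[Y]) (h : D ≤ C[W]) : D ≤ C[Y] := by
  refine comm_eq_bot'.1 (eq_bot_iff.2 ((le_inf ((commS (d'.right.trans d.sup.ge) le_rfl).trans ?_) (commL n2)).trans
    d'.inf.le))
  exact comm_sup_le (commL n1) ((comm_eq_bot'.2 h).le.trans bot_le) (normG U) d.sd.norm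

theorem equiv_quo {G' : Type*} [Group G'] {φ : PHom G G'} (hD : D ≤ φ.dom) (hk : D ⊓ φ.ker = D ⊓ Y) :
    ∃ _ : (Y.subgroupOf D).Normal, Nonempty (D ⧸ Y.subgroupOf D ≃* φ.im D) := by
  have a := res_ker hD
  rw [← inf_subgroupOf_left, hk, inf_subgroupOf_left] at a
  have : (Y.subgroupOf D).Normal := a ▸ inferInstance
  exact ⟨this, ⟨(QuotientGroup.quotientMulEquivOfEq a.symm).trans
    (QuotientGroup.quotientKerEquivOfSurjective _ (res_surj hD))⟩⟩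

theorem O_im_bot {G' G'' : Type*} [Group G'] [Finite G'] [Group G''] [Finite G''] {φ : PHom G G'} {ψ : PHom G G''}
    (h1 : K ≤ φ.dom) (h2 : K ≤ ψ.dom) (hk : K ⊓ φ.ker = K ⊓ ψ.ker) (h : O[π](ψ.im K) = ⊥) : O[π](φ.im K) = ⊥ := by
  have e := im_pre_inf (O_le π (φ.im K))
  have l : φ.pre O[π](φ.im K) ⊓ K ≤ K := inf_le_right
  have a := le_O (im_mono (φ := ψ) l) (im_norm (normI (norm_pre h1 (O_norm _ _)) (normG K))) (by
    rw [pig_im_iff (l.trans h2), ← inf_relIndex_right, ← inf_eq_right.2 l, ← inf_assoc, inf_comm ψ.ker, ← hk,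
      inf_comm K, inf_assoc, inf_eq_right.2 l, inf_relIndex_right, ← pig_im_iff (l.trans h1), e]
    exact O_pig π _)
  rw [h, le_bot_iff, im_eq_bot_iff (l.trans h2)] at a
  rw [← e, im_eq_bot_iff (l.trans h1)]
  exact ((le_inf l a).trans hk.ge).trans inf_le_right

variable [hp : Fact p.Prime]

namespace TV
variable (hA : TV p V H A) (h : FF p V H) (hg : Gen p V H)
include hA h hg

theorem nR : H ≤ N[⁅O[{p}ᶜ](H), A⁆] :=
  ((hA.plane h).sd.hall_l (hA.plane h).pig (PiN.compl_compl hA.pig)).norm_char (hA.plane h).sd.nl (hA.nE h hg)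

variable (n1 : X ≤ N[V]) (n2 : X ≤ N[H]) (pX : PiG π X) (pH : PiG πᶜ H)
include n1 n2 pX pH

omit hg in
theorem dich (hx : x ∈ X) : (x ∈ C[EA p H A] ∧ x ∈ C[⁅V, EA p H A⁆]) ∨
    (BG.cj x (EA p H A) ≤ C[⁅V, EA p H A⁆] ∧ BG.cj x ⁅V, EA p H A⁆ ≤ C[EA p H A]) := by
  have hB := hA.cj (n2 hx) (n1 hx)
  have P := hA.plane h
  by_cases e : EA p H A = EA p H (BG.cj x A)
  · have a : zpowers x ≤ N[EA p H A] := zpowers_le.2 (by rw [mem_N_iff_cj, cj_EA (n2 hx), ← e])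
    have b := normR (zpowers_le.2 (n1 hx)) a
    have c : zpowers x ≤ C[⁅V, EA p H A⁆] := by
      rw [P.eq] at b ⊢
      have d := idx_cent_rank2 hp.out P.pn.ab (P.pn.pRank_eq hp.out).le b
      have f := pH.of_le P.leE
      rw [PiG, ← P.sd.card, P.card_R, hA.card] at f
      refine relIndex_eq_one.1 (((pX.of_le (zpowers_le.2 hx)).relIndex _).eq_one
        ((pin_mul.2 ⟨f, f⟩).of_dvd (d.trans ?_)))
      rcases P.two_or_three with rfl | rfl <;> norm_num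
    refine .inl ⟨comm_eq_bot'.1 (eq_bot_iff.2 ((le_inf (commL a) ((commS le_rfl c).trans
      (commR (normC (comm_normr _ _))))).trans (P.eq ▸ P.faith.le))) (mem_zpowers x), c (mem_zpowers x)⟩
  · rw [cj_comm x V, cj_of_mem_N (n1 hx), cj_EA (n2 hx)]
    exact .inr ⟨cent_symm ((hA.cmp hB h).resolve_left e), (hB.cmp hA h).resolve_left (Ne.symm e)⟩

theorem le_diag (hs : Sol X) : H ≤ (H ⊓ C[X]) ⊔ (H ⊓ C[⁅V, EA p H A⁆]) :=
  diag (hA.dprod h hg).prod (hA.dprod h hg).nr n2 (PiN.coprime' pH pX).symm hs fun x hx =>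
    (hA.dich h n1 n2 pX pH hx).imp (fun a => ⟨a.1, normI (zpowers_le.2 (n2 hx)) (normC (cents_norm
      (zpowers_le.2 a.2))) (mem_zpowers x)⟩) fun a => le_inf (cj_le_of_mem (hA.plane h).leE (n2 hx)) a.1

theorem le_of_syl (hs : Sol X) (hP : Syl p P H) (h1 : P ≤ L) (h2 : H ⊓ C[X] ≤ L) : A ≤ L := by
  have Q := hA.plane h
  have n : H ≤ N[L ⊓ EA p H A] := (hA.le_diag h hg n1 n2 pX pH hs).trans (sup_le
    (normI (normsG h2) (inf_le_left.trans (hA.nE h hg)))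
    (cents_norm ((hA.dprod h hg).cent.trans (centS inf_le_right))))
  obtain ⟨g, a, b⟩ := Syl.sub_cj (hP.inf_norm' Q.leE (hA.nE h hg)) hp.out le_sup_right hA.pig
  exact b.trans ((cj_le_of_mem (inf_le_inf_right _ h1) (n (Q.leE a))).trans inf_le_left)

theorem fixed (hs : Sol X) (pV : PiG πᶜ V) : ∃ W ≤ V ⊓ C[X], #W = p ^ 2 ∧ H ⊓ C[X] ≤ N[W] ∧
    ∃ φ : PHom G SL(2, ZMod p), H ≤ φ.dom ∧ φ.im (H ⊓ C[X]) = ⊤ ∧ H ⊓ C[X] ⊓ φ.ker = H ⊓ C[X] ⊓ C[W] := by
  have P := hA.plane h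
  obtain ⟨φ, f⟩ := exists_slrep P.pn
  have d := P.dprod
  rw [← P.eq] at f d
  let R := ⨆ x : X, BG.cj (x : G) ⁅O[{p}ᶜ](H), A⁆
  have r1 : ⁅O[{p}ᶜ](H), A⁆ ≤ R := le_iSup_of_le 1 (by simp [cj_one])
  have r2 : R ≤ O[{p}ᶜ](H) := iSup_le fun x => cj_le_of_mem (commL hA.nQ) (normO _ n2 x.2)
  have r3 : H ≤ N[R] := norm_iSup fun x => by rw [← cj_of_mem_N (n2 x.2), norm_cj, cj_of_mem_N (n2 x.2)]; exact hA.nR h hg
  have r4 : X ≤ N[R] := fun y a => mem_N_of_cj_le (cj_le_iff.2 (iSup_le fun x => le_cj_iff.2 (by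
    rw [inv_inv, ← cj_mul]; exact le_iSup_of_le ⟨_, mul_mem a x.2⟩ le_rfl)))
  have RV := r2.trans ((O_le _ _).trans h.nV)
  have l := commL RV
  have w : ⁅V, EA p H A⁆ ≤ ⁅V, R⁆ := P.eq.le.trans (commS le_rfl r1)
  have n3 := normR n1 r4
  have a := diag (d.modr w).symm.prod (abel_norm (h.ab.abel.of_le inf_le_left) (inf_le_inf_right _ inf_le_left))
    (normI n1 n3) (PiN.coprime' (pV.of_le inf_le_left) pX).symm hs fun x hx =>
    (hA.dich h n1 n2 pX pH hx).imp (fun a => ⟨a.2, normI (normI (zpowers_le.2 (n1 hx)) (normC (cents_norm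
      (zpowers_le.2 a.1)))) (zpowers_le.2 (n3 hx)) (mem_zpowers x)⟩)
      fun a => le_inf (le_inf (cj_le_of_mem d.right (n1 hx)) a.2) (cj_le_of_mem w (n3 hx))
  rw [inf_eq_right.2 l] at a
  have d' : Dprod (V ⊓ C[EA p H A]) (⁅V, R⁆ ⊓ C[X]) V := by
    refine ⟨le_antisymm (sup_le inf_le_left (inf_le_left.trans l)) (d.sup.ge.trans (sup_le le_sup_left
      (w.trans (a.trans (sup_le le_sup_right (inf_le_left.trans le_sup_left)))))), eq_bot_iff.2 (le_trans ?_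
        (cop_abel_C_comm h.ab.abel RV (PiN.coprime' ((O_pig _ _).of_le r2) h.pig)).le),
      centSS h.ab.abel (inf_le_left.trans l) inf_le_left⟩
    refine le_inf (inf_le_right.trans inf_le_left) (cent_symm (iSup_le fun x => ?_))
    rw [← cj_of_mem_C (cent_symm (inf_le_right.trans inf_le_right) x.2), cent_cj]
    exact cent_symm (inf_le_left.trans (inf_le_right.trans (centS le_sup_left)))
  have n4 : H ⊓ C[X] ≤ N[⁅V, R⁆ ⊓ C[X]] :=
    normI (inf_le_left.trans (normR h.nV r3)) (normC (cents_norm inf_le_right))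
  have n5 := normI h.nV (normC (hA.nE h hg))
  have dm : H ≤ φ.dom := hg _ fun B hB => f.le (hB.le.trans (hA.nW h hg)) hB.card
  refine ⟨⁅V, R⁆ ⊓ C[X], inf_le_inf_right _ l, ?_, n4, φ, dm, ?_, ?_⟩
  · rw [← P.card_W, ← P.eq]
    exact Nat.eq_of_mul_eq_mul_left (card_pos _) (d'.card.trans d.card.symm)
  · rw [eq_top_iff, ← P.im_top (P.eq ▸ f), im_le_im_iff (P.leE.trans dm) (inf_le_left.trans dm), f.ker]
    exact P.leE.trans ((hA.le_diag h hg n1 n2 pX pH hs).trans (sup_le_sup_left inf_le_right _))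
  · rw [f.ker]
    exact le_antisymm (le_inf inf_le_left (cent_compl d d' (inf_le_left.trans (inf_le_left.trans n5))
      (inf_le_left.trans n4) inf_le_right)) (le_inf inf_le_left (cent_compl d' d
        (inf_le_left.trans (inf_le_left.trans n5)) (inf_le_left.trans (inf_le_left.trans (hA.nW h hg))) inf_le_right))

end TV

omit hp

/-- `ψ` and `θ` map `N[V]` and `V` to the holomorph of `V` -/
structure HolP {Γ : Type*} [Group Γ] (V : Subgroup G) (ψ θ : PHom G Γ) : Prop where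
  dom : ψ.dom = N[V]
  ker : ψ.ker = C[V]
  tdom : θ.dom = V
  tker : θ.ker = ⊥
  conj : ∀ g ∈ N[V], ∀ v ∈ V, θ.app (g * v * g⁻¹) = ψ.app g * θ.app v * (ψ.app g)⁻¹

theorem exists_holP (V : Subgroup G) :
    ∃ (Γ : Type u) (_ : Group Γ) (_ : Finite Γ) (ψ θ : PHom G Γ), HolP V ψ θ := by
  refine ⟨V ⋊[MonoidHom.id _] MulAut V, inferInstance, Finite.of_equiv _ SemidirectProduct.equivProd.symm,
    ⟨N[V], SemidirectProduct.inr.comp V.normalizerMonoidHom⟩, ⟨V, SemidirectProduct.inl⟩, rfl, ?_, rfl, ?_,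
    fun g a v b => ?_⟩
  · rw [← aut_ker, ker_eq, ker_eq]
    exact congrArg _ (MonoidHom.ker_comp_of_injective _ _ SemidirectProduct.inr_injective)
  · rw [ker_eq, (MonoidHom.ker_eq_bot_iff _).2 SemidirectProduct.inl_injective, Subgroup.map_bot]
  · rw [app_eq (conj_mem a b), app_eq a, app_eq b, ← map_inv]
    refine Eq.trans ?_ ((SemidirectProduct.inl_aut (φ := MonoidHom.id _) (V.normalizerMonoidHom ⟨g, a⟩) ⟨v, b⟩).trans
      (by rw [← map_inv]; rfl))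
    rfl

namespace HolP
variable {Γ : Type*} [Group Γ] [Finite Γ] {ψ θ : PHom G Γ} (h : HolP V ψ θ)
include h

theorem inj {v w : G} (hv : v ∈ V) (hw : w ∈ V) (e : θ.app v = θ.app w) : v = w := by
  rwa [app_eq_iff (h.tdom ▸ hv) (h.tdom ▸ hw), h.tker, mem_bot, inv_mul_eq_one] at e

theorem comm_iff (hg : g ∈ N[V]) (hx : x ∈ V) : θ.app x * ψ.app g = ψ.app g * θ.app x ↔ x * g = g * x := by
  rw [eq_comm, ← mul_inv_eq_iff_eq_mul, ← h.conj g hg x hx, eq_comm (b := g * x), ← mul_inv_eq_iff_eq_mul]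
  exact ⟨h.inj (conj_mem hg hx) hx, congrArg _⟩

theorem cent_iff (hA : A ≤ N[V]) (hU : U ≤ V) : ψ.im A ≤ C[θ.im U] ↔ A ≤ C[U] := by
  refine ⟨fun a g b => mem_C.2 fun u c => (h.comm_iff (hA b) (hU c)).1
    (mem_C.1 (a (app_mem_im b (h.dom ▸ hA b))) _ (app_mem_im c (h.tdom ▸ hU c))), fun a g b => mem_C.2 fun u c => ?_⟩
  obtain ⟨g, b', rfl⟩ := (mem_im' (h.dom ▸ hA)).1 b
  obtain ⟨u, c', rfl⟩ := (mem_im' (h.tdom ▸ hU)).1 c
  exact (h.comm_iff (hA b') (hU c')).2 (mem_C.1 (a b') u c')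

theorem im_C (hA : A ≤ N[V]) : θ.im (V ⊓ C[A]) = θ.im V ⊓ C[ψ.im A] := by
  refine le_antisymm (le_inf (im_mono inf_le_left) (cent_symm ((h.cent_iff hA inf_le_left).2 (cent_symm inf_le_right)))) ?_
  obtain ⟨U, a, -, e⟩ := exists_im_eq' (inf_le_left : θ.im V ⊓ C[ψ.im A] ≤ _)
  rw [← e]
  exact im_mono (le_inf a (cent_symm ((h.cent_iff hA a).1 (cent_symm (e.le.trans inf_le_right)))))

theorem norm_iff (hA : A ≤ N[V]) (hU : U ≤ V) : ψ.im A ≤ N[θ.im U] ↔ A ≤ N[U] := by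
  rw [le_N_iff, le_N_iff]
  refine ⟨fun a g b u c => ?_, fun a g b u c => ?_⟩
  · have := a _ (app_mem_im b (h.dom ▸ hA b)) _ (app_mem_im c (h.tdom ▸ hU c))
    rwa [← h.conj g (hA b) u (hU c), app_mem_iff (h.tdom ▸ conj_mem (hA b) (hU c)) (h.tdom ▸ hU)
      (h.tker ▸ bot_le)] at this
  · obtain ⟨g, b', rfl⟩ := (mem_im' (h.dom ▸ hA)).1 b
    obtain ⟨u, c', rfl⟩ := (mem_im' (h.tdom ▸ hU)).1 c
    rw [← h.conj g (hA b') u (hU c')]
    exact app_mem_im (a g b' u c') (h.tdom ▸ conj_mem (hA b') (hU c'))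

theorem card (hU : U ≤ V) : #(θ.im U) = #U := card_im_inj (h.tdom ▸ hU) (by rw [h.tker, inf_bot_eq])

theorem faith (hA : A ≤ N[V]) : ψ.im A ⊓ C[θ.im V] = ⊥ := by
  obtain ⟨B, a, b, e⟩ := exists_im_eq' (inf_le_left : ψ.im A ⊓ C[θ.im V] ≤ _)
  rw [← e, im_eq_bot_iff b, h.ker]
  exact (h.cent_iff (a.trans hA) le_rfl).1 (e.le.trans inf_le_right)

theorem off (hA : A ≤ N[V]) : #(A ⊓ C[V]) * (#(ψ.im A) * #(θ.im V ⊓ C[ψ.im A])) = #A * #(V ⊓ C[A]) := by
  rw [← h.im_C hA, h.card inf_le_left, ← mul_assoc, ← h.ker, card_im_mul (h.dom ▸ hA)]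

variable [hp : Fact p.Prime]

theorem ff (hV : Abelem p V) (hK : K ≤ N[V]) (hs : IsPSolvable p K) (hO : O[{p}](ψ.im K) = ⊥) :
    FF p (θ.im V) (ψ.im K) :=
  ff_of (abelem_iff.1 (hV.im θ)) ((h.norm_iff hK le_rfl).2 hK) (h.faith hK)
    (PLoc.centralizer_pPrimeCore_le_of_isPSolvable (PLoc.isPSolvable_of_surjective (res_surj (h.dom ▸ hK)) hs)
      ((map_eq_bot_iff_of_injective _ (subtype_injective _)).1 ((pCore_map hp.out _).trans hO)))

theorem ffJ (hV : Abelem p V) (h1 : V ≤ K) (hK : K ≤ N[V]) (hs : IsPSolvable p K) (hO : O[{p}](ψ.im K) = ⊥) :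
    FF p (θ.im V) (ψ.im (JOf p K)) ∧ Gen p (θ.im V) (ψ.im (JOf p K)) := by
  have l := PLoc.JOf_le (e := p) K
  have f := h.ff hV (l.trans hK) (PLoc.isPSolvable_of_le hs l) (eq_bot_iff.2
    ((O_le_of_normal _ (im_mono l) (im_norm (PLoc.le_normalizer_JOf K))).trans hO.le))
  refine ⟨f, fun L hL => (le_pre_iff (h.dom ▸ l.trans hK)).1 (PLoc.JOf_le_iff.2 fun A a =>
    (le_pre_iff (h.dom ▸ a.1.trans hK)).2 (f.gen (im_mono (PLoc.le_JOf a)) ((abelem_iff.2 a.2.1).im ψ) ?_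
      fun T _ => hL T))⟩
  have := (PLoc.bestOff_of_mem_maxEA (abelem_iff.1 hV) h1 a).1 (A ⊓ C[V]) inf_le_left
  rw [← h.off (a.1.trans hK), inf_eq_left.2 (cent_symm inf_le_right)] at this
  rw [h.card le_rfl]
  exact Nat.le_of_mul_le_mul_left this (card_pos _)

end HolP

variable [hp : Fact p.Prime]

theorem norm_VOm (h : X ≤ N[K]) : X ≤ N[(VOm p K).map K.subtype] := fun g a => mem_N_of_cj_le (by
  rw [cj_le_iff, map_le_iff_le_comap]
  refine iSup_le fun S => map_le_iff_le_comap.1 (le_cj_iff.2 ?_)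
  obtain ⟨T, e⟩ := Syl.exists_sylow ((syl_map hp.out S).cj_norm (h a)) hp.out
  have m : ∀ T : Subgroup K, (PLoc.OmZ p T).map K.subtype = PLoc.OmZ p (T.map K.subtype) := fun T =>
    PLoc.map_OmZ (PLoc.inj_on_of_injective K.subtype_injective _)
  rw [inv_inv, m]
  refine (PLoc.cj_OmZ g _).le.trans ?_
  rw [show PLoc.cj g _ = _ from e.symm, ← m]
  exact map_mono (le_iSup (fun S : Sylow p K => PLoc.OmZ p (S : Subgroup K)) T))

theorem pCore_quo_VOm : pCore p (G ⧸ C[VOm p G]) = ⊥ :=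
  PLoc.pCore_quotient_eq_bot_iff.2 fun _ => PLoc.le_centralizer_VOm_of_inOp

theorem map_C (A : Subgroup K) : C[A].map K.subtype = K ⊓ C[A.map K.subtype] := by
  have := PLoc.map_inf_centralizer (PLoc.inj_on_of_injective K.subtype_injective ⊤) (le_top (a := A))
  rwa [top_inf_eq, map_subtype_top] at this

theorem HolP.ffK {Γ : Type*} [Group Γ] [Finite Γ] {ψ θ : PHom G Γ} (h : HolP ((VOm p K).map K.subtype) ψ θ)
    (hs : IsPSolvable p K) (hO : pPrimeCore p K = ⊥) :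
    FF p (θ.im ((VOm p K).map K.subtype)) (ψ.im (JOf p K)) ∧ Gen p (θ.im ((VOm p K).map K.subtype)) (ψ.im (JOf p K)) :=
  h.ffJ ((abelem_iff.2 (PLoc.isEA_VOm (PLoc.centralizer_pCore_le_of_isPSolvable hs hO))).map _) (map_subtype_le _)
    (norm_VOm (normG K)) hs (O_im_bot (ψ := mquo K C[VOm p K]) (h.dom ▸ norm_VOm (normG K)) le_rfl
      (by rw [mquo_ker, map_C, h.ker, ← inf_assoc, inf_idem]) (by rw [mquo_top, ← pCore_eq hp.out, pCore_quo_VOm]))

end Cfsg.Agent.Fac
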