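import Cfsg.Agent.Fac.Amal
import Cfsg.Agent.PLoc.Hol
/-!
Pushing up for solvable groups with coprime operators.
-/
set_option autoImplicit false
set_option linter.unusedSectionVars false

namespace Cfsg.Agent.Fac
open Subgroup Cfsg.Agent.BG PHom
open Cfsg.Agent.PLoc (JOf maxEA ZJOf OmZ)
open scoped MatrixGroups

universe u
variable {G : Type u} [Group G] [Finite G] {A B D H K L P S T U V W X Y Θ : Subgroup G} {g : G} {p : ℕ}
  {π : Set ℕ} {𝒱 : Set (Subgroup G)} [hp : Fact p.Prime]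

theorem JOf_le_of (hS : Syl p S K) (h1 : JOf p S ≤ D) (h2 : JOf p K ≤ N[D]) : JOf p K ≤ D :=
  PLoc.JOf_le_iff.2 fun A a => by
    obtain ⟨g, b, c⟩ := Syl.cj_sub (hS.inf_norm' (PLoc.JOf_le K) (PLoc.le_normalizer_JOf K)) hp.out (PLoc.le_JOf a)
      ((abelem_iff.2 a.2.1).pig hp.out)
    have := (PLoc.le_JOf (PLoc.mem_maxEA_of_le (PLoc.cj_mem_maxEA_of_mem_normalizer a
      (normG K (PLoc.JOf_le K b))) (c.trans inf_le_left) hS.le)).trans h1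
    exact (cj_le_iff.1 this).trans (cj_of_mem_N (inv_mem (h2 b))).le

theorem JOf_mono (hS : Syl p S K) : JOf p S ≤ JOf p K :=
  sSup_le_sSup ((syl_iff' hp.out).1 hS).maxEA_subset

theorem line_sup (h : #W = p ^ 2) (h1 : L ≤ W) (h2 : #L = p) (h3 : g ∈ N[W]) (h4 : g ∉ N[L]) : W ≤ L ⊔ cj g L := by
  by_contra hn
  have a := card_sub_of_sq hp.out h (lt_of_le_of_ne (sup_le h1 (cj_le_of_mem h1 h3)) fun e => hn e.ge)
    fun e => ne_bot_of_prime (h2 ▸ hp.out) (eq_bot_iff.2 (le_sup_left.trans e.le))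
  exact h4 (mem_N_of_cj_le (le_sup_right.trans (eq_of_card_le le_sup_left (a.trans h2.symm).le).ge))

/-- The planes of a failure of factorization module. -/
structure FFS (p : ℕ) (K S B V : Subgroup G) (𝒱 : Set (Subgroup G)) : Prop where
  le : ∀ W ∈ 𝒱, W ≤ V
  card : ∀ W ∈ 𝒱, #W = p ^ 2
  p23 : ∀ W ∈ 𝒱, p = 2 ∨ p = 3
  dvd : ∀ W ∈ 𝒱, p ^ 2 - 1 ∣ #K
  nJ : ∀ W ∈ 𝒱, JOf p K ≤ N[W]
  perm : ∀ g ∈ N[K] ⊓ N[V], ∀ W ∈ 𝒱, cj g W ∈ 𝒱
  ind : ∀ W ∈ 𝒱, W ⊓ Oth 𝒱 W = ⊥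
  cen : ∀ W ∈ 𝒱, B ⊓ N[W] ≤ C[W]
  ln : ∀ W ∈ 𝒱, #(W ⊓ C[JOf p S]) = p
  ex : ∀ W ∈ 𝒱, ¬ JOf p K ⊓ C[B] ≤ N[W ⊓ C[JOf p S]]
  gen : ∀ L ≤ K, S ≤ L → (∀ W ∈ 𝒱, ¬ L ⊓ N[W] ≤ N[W ⊓ C[JOf p S]]) → JOf p K ≤ L ⊔ C[V]

theorem HolP.im_cj {Γ : Type*} [Group Γ] [Finite Γ] {ψ θ : PHom G Γ} (h : HolP V ψ θ) (hg : g ∈ N[V]) (hW : W ≤ V) :
    θ.im (cj g W) = cj (ψ.app g) (θ.im W) := by
  refine eq_of_card_le (fun y a => ?_) (by rw [card_cj, h.card hW, h.card (cj_le_of_mem hW hg), card_cj])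
  obtain ⟨y, b, rfl⟩ := (mem_im' (h.tdom ▸ cj_le_of_mem hW hg)).1 a
  obtain ⟨w, c, rfl⟩ := exists_of_mem_cj b
  rw [h.conj g hg w (hW c)]
  exact mem_cj_conj.2 (app_mem_im c (h.tdom ▸ hW c))

theorem exists_ffs (hS : Syl p S K) (hV : Abelem p V) (h1 : V ≤ S) (hK : K ≤ N[V]) (hs : Sol K)
    (hO : ∀ D ≤ K, K ≤ N[D] → PiN {p} (C[V].relIndex D) → D ≤ C[V]) (n1 : B ≤ N[K]) (n2 : B ≤ N[V])
    (pB : PiG π B) (pK : PiG πᶜ K) (sB : Sol B) : ∃ 𝒱, FFS p K S B V 𝒱 := by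
  obtain ⟨Γ, _, _, ψ, θ, h⟩ := exists_holP V
  have nK := h.dom ▸ hK
  have J := PLoc.JOf_le (e := p) K
  have JV := J.trans hK
  have nJ := n1.trans (PLoc.normalizer_le_normalizer_JOf (e := p) K)
  obtain ⟨f, gn⟩ := h.ffJ hV (h1.trans hS.le) hK (PLoc.isPSolvable_of_isSolvable hs) (by
    have e := im_pre_inf (O_le {p} (ψ.im K))
    have l : ψ.pre O[{p}](ψ.im K) ⊓ K ≤ K := inf_le_right
    rw [← e, im_eq_bot_iff (l.trans nK), h.ker]
    refine hO _ l (normI (norm_pre nK (O_norm _ _)) (normG K)) ?_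
    rw [← h.ker, ← pig_im_iff (l.trans nK), e]; exact O_pig _ _)
  generalize hH : ψ.im (JOf p K) = H at f gn
  have iV := (h.norm_iff n2 le_rfl).2 n2
  have iH : ψ.im B ≤ N[H] := hH ▸ im_norm nJ
  have pH : PiG πᶜ H := hH ▸ (pK.of_le J).im ψ
  let 𝒱 := {W | W ≤ V ∧ ∃ A, TV p (θ.im V) H A ∧ θ.im W = ⁅θ.im V, EA p H A⁆}
  have cd : ∀ W ∈ 𝒱, #W = p ^ 2 := fun W ⟨a, A, t, e⟩ => by
    rw [← h.card a, e, (t.plane f).eq, (t.plane f).card_W]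
  have nW : ∀ W ∈ 𝒱, JOf p K ≤ N[W] := fun W ⟨a, A, t, e⟩ => (h.norm_iff JV a).1 (e ▸ hH ▸ t.nW f gn)
  have ln : ∀ W ∈ 𝒱, #(W ⊓ C[JOf p S]) = p := fun W w => by
    refine card_sub_of_sq hp.out (cd W w) (inf_lt_left.2 fun i => ?_) (((hV.of_le w.1).pig hp.out).meet_C
      (hS.pi.of_le (PLoc.JOf_le S)) ((JOf_mono hS).trans (nW W w))
      fun e => (Nat.one_lt_pow two_ne_zero hp.out.one_lt).ne' ((cd W w).symm.trans (e ▸ card_bot')))
    obtain ⟨a, A, t, e⟩ := w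
    have := (h.cent_iff JV a).2 (JOf_le_of hS (cent_symm i) (normC (nW W ⟨a, A, t, e⟩)))
    rw [hH, e, (t.plane f).eq] at this
    exact (t.plane f).not_cent (t.le.trans this)
  refine ⟨𝒱, fun W w => w.1, cd, fun W ⟨_, A, t, _⟩ => t.two_or_three f, fun W ⟨_, A, t, _⟩ =>
    (t.plane f).card_R ▸ (cardS ((t.plane f).le.trans (hH.ge.trans (im_mono J)))).trans (card_im_dvd K), nW, ?_, ?_, ?_, ln, ?_, ?_⟩
  · rintro g ⟨g1, g2⟩ W ⟨a, A, t, e⟩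
    have b : ψ.app g ∈ N[H] := hH ▸ app_mem_N (PLoc.normalizer_le_normalizer_JOf K g1) (h.dom ▸ g2)
    have c : ψ.app g ∈ N[θ.im V] := by rw [mem_N_iff_cj, ← h.im_cj g2 le_rfl, cj_of_mem_N g2]
    exact ⟨cj_le_of_mem a g2, _, t.cj b c, by rw [h.im_cj g2 a, e, cj_comm, cj_of_mem_N c, cj_EA b]⟩
  · rintro W ⟨a, A, t, e⟩
    have b : Oth 𝒱 W ≤ θ.pre C[EA p H A] := sSup_le fun U ⟨⟨a', A', t', e'⟩, c⟩ => (le_pre_iff (h.tdom ▸ a')).2
      (e' ▸ (t'.cmp t f).resolve_left fun i => c (im_inj (h.tdom ▸ a') (h.tdom ▸ a) (h.tker ▸ bot_le)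
        (h.tker ▸ bot_le) (by rw [e, e', i])))
    rw [eq_bot_iff, ← h.tker, ← im_eq_bot_iff (inf_le_left.trans (h.tdom ▸ a)), eq_bot_iff, ← (t.plane f).inf_C,
      ← (t.plane f).eq, ← e]
    exact le_inf (im_mono inf_le_left) (((im_mono (inf_le_right.trans b)).trans (im_pre_le _)).trans (centS le_sup_left))
  · rintro W ⟨a, A, t, e⟩ b ⟨b1, b2⟩
    have c := zpowers_le.2 (n2 b1)
    refine (h.cent_iff c a).1 ?_ (mem_zpowers b)
    rw [im_zpowers (h.dom ▸ n2 b1), zpowers_le, e]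
    refine ((t.dich f iV iH (pB.im ψ) pH (app_mem_im b1 (h.dom ▸ n2 b1))).resolve_right fun i => ?_).2
    have := i.2
    rw [← e, ← h.im_cj (n2 b1) a, cj_of_mem_N b2, e, (t.plane f).eq] at this
    exact (t.plane f).not_cent (cent_symm (this.trans (centS le_sup_right)))
  · rintro W w i
    have c := ln W w
    obtain ⟨a, A, t, e⟩ := w
    have P := t.plane f
    have l := (inf_le_left (b := C[JOf p S])).trans a
    have b := (h.norm_iff (inf_le_left.trans JV) l).2 i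
    rw [im_IC (h.dom ▸ n2) (J.trans nK) (normI nJ (h.ker ▸ normC n2))
      (PiN.coprime' (pK.of_le (inf_le_left.trans J)) pB).symm (.inl sB) nJ, hH] at b
    have l' : θ.im (W ⊓ C[JOf p S]) ≤ ⁅θ.im V, EA p H A⁆ := e ▸ im_mono inf_le_left
    have d := P.irr _ (P.eq ▸ l') (P.le.trans ((t.le_diag f gn iV iH (pB.im ψ) pH (sB.im ψ)).trans
      (sup_le b (cents_norm (inf_le_right.trans (centS l'))))))
    rw [← h.card l] at c
    rcases d with d | d <;> rw [d] at c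
    · exact hp.out.one_lt.ne (card_bot'.symm.trans c)
    · rw [P.card_W] at c; nlinarith [hp.out.one_lt]
  · intro L l1 l2 hL
    rw [← h.ker, ← im_le_im_iff (J.trans nK) (l1.trans nK), hH]
    refine gn _ fun A t => ?_
    have P := t.plane f
    obtain ⟨W, a, -, e⟩ := exists_im_eq' (commL P.nV : ⁅θ.im V, EA p H A⁆ ≤ _)
    have w : W ∈ 𝒱 := ⟨a, A, t, e⟩
    obtain ⟨x, x1, x2⟩ := SetLike.not_le_iff_exists.1 (hL W w)
    have xV := hK (l1 x1.1)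
    have s : Syl p (ψ.im (S ⊓ JOf p K)) H := hH ▸ (hS.inf_norm' J (PLoc.le_normalizer_JOf K)).im (J.trans nK)
    obtain ⟨y, y1, y2⟩ := Syl.cj_sub (s.inf_norm' P.leE (t.nE f gn)) hp.out le_sup_right t.pig
    have l := (inf_le_left (b := C[JOf p S])).trans a
    have c1 : cj y A ≤ C[θ.im (W ⊓ C[JOf p S])] := (y2.trans inf_le_left).trans
      ((h.cent_iff (inf_le_right.trans JV) l).2 ((hS.pi.of_le inf_le_left).cent_of_prime hp.out (ln W w)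
        (normI (inf_le_right.trans (nW W w)) (normC (inf_le_left.trans (PLoc.le_normalizer_JOf S))))))
    have b : ψ.app x ∈ N[H] := hH ▸ app_mem_N (PLoc.le_normalizer_JOf K (l1 x1.1)) (h.dom ▸ xV)
    have c : ψ.app x ∈ N[θ.im V] := by rw [mem_N_iff_cj, ← h.im_cj xV le_rfl, cj_of_mem_N xV]
    have nE : ψ.app x ∈ N[EA p H A] := by
      rw [mem_N_iff_cj, cj_EA b]
      refine (t.cj b c).eq_of t f ?_
      rw [← cj_EA b, ← e, ← cj_of_mem_N x1.2, h.im_cj xV a, e, cj_comm, cj_of_mem_N c]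
    have yE := y2.trans inf_le_right
    have yL : cj y A ≤ ψ.im L := (y2.trans inf_le_left).trans (im_mono (inf_le_left.trans l2))
    have zE := cj_le_of_mem yE nE
    have zL := cj_le_of_mem yL (normG _ (app_mem_im x1.1 (h.dom ▸ xV)))
    have cy : #(cj y A) = p := by rw [card_cj, t.card]
    have fa : ∀ D ≤ EA p H A, #D = p → ¬ D ≤ C[⁅θ.im V, ⁅O[{p}ᶜ](H), A⁆⁆] := fun D d1 d2 d3 =>
      ne_bot_of_prime (d2 ▸ hp.out) (eq_bot_iff.2 ((le_inf d1 d3).trans P.faith.le))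
    obtain ⟨φ, F⟩ := exists_slrep P.pn
    have dm := (sup_le yE zE).trans (P.dom F)
    have m := le_inf (F.le_sup dm (F.im_top dm le_sup_left le_sup_right cy (by rw [card_cj, cy]) (fa _ yE cy)
      fun i => fa _ zE (by rw [card_cj, cy]) ?_) (P.dom F)) le_rfl
    · rw [modl_r (normC ((sup_le yE zE).trans P.nW)) (sup_le yE zE), inf_comm, P.faith, sup_bot_eq] at m
      exact le_sup_right.trans (m.trans (sup_le yL zL))
    rw [← P.eq, ← e] at i ⊢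
    refine le_trans (centY (i.trans (sup_le c1 (centS (im_mono inf_le_left)))) (cent_cj.2 c1)) (centS ?_)
    rw [← h.im_cj xV l, ← im_sup (h.tdom ▸ l) (h.tdom ▸ cj_le_of_mem l xV)]
    exact im_mono (line_sup (cd W w) inf_le_left (ln W w) x1.2 x2)

theorem comm_line (hW : #W = p ^ 2) (hT : PiG {p} T) (h : T ≤ N[W]) : ⁅W, T⁆ ≤ W ⊓ C[T] := by
  refine le_inf (commL h) ?_
  by_cases e : ⁅W, T⁆ = ⊥
  · exact e.le.trans bot_le
  exact cent_symm (hT.cent_of_prime hp.out (card_sub_of_sq hp.out hW ((pig_of_card_pow hp.out hW).comm_lt hT h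
    fun e' => e (by rw [e', commutator_bot_left])) e) (comm_normr _ _))

/-- Replacement: a maximal elementary abelian subgroup is moved into the centralizer of the planes. -/
theorem replace (hV : Abelem p (sSup 𝒱)) (h1 : sSup 𝒱 ≤ S) (cd : ∀ W ∈ 𝒱, #W = p ^ 2 ∧ (p = 2 ∨ p = 3))
    (nJ : ∀ W ∈ 𝒱, JOf p S ≤ N[W]) (hA : A ∈ maxEA p S) : ∃ B ∈ maxEA p S, B ≤ A ⊔ sSup 𝒱 ∧ B ≤ C[sSup 𝒱] := by
  obtain ⟨_, -, ⟨B, b1, b2, rfl⟩, mx⟩ := exists_maximal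
    (P := fun D => ∃ B ∈ maxEA p S, B ≤ A ⊔ sSup 𝒱 ∧ D = B ⊓ sSup 𝒱) ⟨A, hA, le_sup_left, rfl⟩
  refine ⟨B, b1, b2, cent_symm (sSup_le fun W w => by_contra fun hn => ?_)⟩
  have a := abelem_iff.2 b1.2.1
  have l := le_sSup w
  have n := (PLoc.le_JOf b1).trans (nJ W w)
  have i : C[W].relIndex B ∣ p := by
    refine PiN.dvd_of_dvd_mul ((a.pig hp.out).relIndex _) (c := (p ^ 2 - 1) * (p - 1)) ((pin_compl hp.out).2 ?_)
      ((idx_cent_rank2 hp.out (hV.of_le l) (pRank_le_of_card hp.out (cd W w).1) n).trans ?_) <;>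
    rcases (cd W w).2 with rfl | rfl <;> norm_num
  have j : #(C[W] ⊓ B ⊓ W) ≤ p := by
    by_cases e : C[W] ⊓ B ⊓ W = ⊥
    · rw [e, card_bot']; exact hp.out.one_lt.le
    exact (card_sub_of_sq hp.out (cd W w).1 (inf_lt_right.2 fun i => hn (i.trans (inf_le_right.trans a.abel))) e).le
  have k := (isProd_r (cents_norm (inf_le_left (a := C[W]) (b := B)))).card
  have m := PLoc.mem_maxEA_of_card b1 (sup_le (inf_le_right.trans b1.1) (l.trans h1)) (abelem_iff.1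
    ((a.of_le inf_le_right).sup (hV.of_le l) (inf_le_left (a := C[W])))) (by
      refine Nat.le_of_mul_le_mul_right ?_ (card_pos (C[W] ⊓ B ⊓ W))
      rw [k, ← card_inf_mul_relIndex C[W] B, (cd W w).1, mul_assoc, pow_two]
      exact Nat.mul_le_mul_left _ (Nat.mul_le_mul (Nat.le_of_dvd hp.out.pos i) j))
  have e := mx _ ⟨_, m, sup_le (inf_le_right.trans b2) (l.trans le_sup_right), rfl⟩ (le_inf
    ((le_inf (inf_le_right.trans (centSS hV.abel le_rfl l)) inf_le_left).trans le_sup_left) inf_le_right)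
  exact hn (((le_inf le_sup_right l).trans e.le).trans (inf_le_left.trans a.abel))

/-- the normal closure of `Ω₁(Z(S))` in `K` -/
def VZ (p : ℕ) (K S : Subgroup G) : Subgroup G := ⨆ k : K, cj (k : G) Ω[p](Z[S])

omit hp in
theorem cj_le_VZ (h : g ∈ K) : cj g Ω[p](Z[S]) ≤ VZ p K S := le_iSup (fun k : K => cj (k : G) Ω[p](Z[S])) ⟨g, h⟩

omit hp in
theorem le_VZ : Ω[p](Z[S]) ≤ VZ p K S := (cj_one _).ge.trans (cj_le_VZ (one_mem K))

omit hp in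
theorem VZ_le (hP : P ≤ S) (nP : K ≤ N[P]) (zP : Ω[p](Z[S]) ≤ P) : VZ p K S ≤ Ω[p](Z[P]) :=
  iSup_le fun k => cj_le_of_mem ((OmZ_abelem p S).le_Om (le_inf zP ((OmZ_cent p S).trans (centS hP))))
    (normOmZ p nP k.2)

omit hp in
theorem VZ_norm : K ≤ N[VZ p K S] := fun y i => mem_N_of_cj_le (cj_le_iff.2 (iSup_le fun x => le_cj_iff.2 (by
  rw [inv_inv, ← cj_mul]; exact cj_le_VZ (mul_mem i x.2))))

omit hp in
theorem norm_VZ (h1 : A ≤ N[K]) (h2 : A ≤ N[S]) : A ≤ N[VZ p K S] := fun y i =>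
  mem_N_of_cj_le (cj_le_iff.2 (iSup_le fun x => le_cj_iff.2 (by
    rw [inv_inv, ← cj_mul, ← inv_mul_cancel_right (y * x) y, cj_mul, cj_of_mem_N (normOmZ p h2 i)]
    exact cj_le_VZ (conj_mem (h1 i) x.2))))

theorem ffs_VZ (hS : Syl p S K) (hP : P ≤ S) (nP : K ≤ N[P]) (zP : Ω[p](Z[S]) ≤ P) (hs : Sol K) (n1 : B ≤ N[K])
    (n2 : B ≤ N[S]) (pB : PiG π B) (pK : PiG πᶜ K) (sB : Sol B) : ∃ 𝒱, FFS p K S B (VZ p K S) 𝒱 :=
  exists_ffs hS ((OmZ_abelem p P).of_le (VZ_le hP nP zP)) ((VZ_le hP nP zP).trans ((OmZ_le p P).trans hP)) VZ_norm hs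
    (fun D d1 d2 d3 => cent_symm (iSup_le fun k => by
      rw [← cj_of_mem_N (d2 k.2), cent_cj]
      refine cent_symm (((hS.inf_norm' d1 d2).prod_idx inf_le_right (by rwa [inf_relIndex_right])).sup.ge.trans
        (sup_le (inf_le_left.trans (cent_symm (OmZ_cent p S))) (inf_le_left.trans (centS le_VZ))))))
    n1 (norm_VZ n1 n2) pB pK sB

/-- Thompson factorization in the absence of `SL(2, p)`. -/
theorem JOf_le_VZ (hS : Syl p S K) (hP : P ≤ S) (nP : K ≤ N[P]) (zP : Ω[p](Z[S]) ≤ P) (hs : Sol K)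
    (h : p = 2 ∨ p = 3 → ¬ p ^ 2 - 1 ∣ #K) : JOf p K ≤ S ⊔ K ⊓ C[VZ p K S] := by
  obtain ⟨𝒱, F⟩ := ffs_VZ (π := ∅) hS hP nP zP hs bot_le bot_le (pig_bot _) (Set.compl_empty ▸ pin_univ _) sol_bot
  have := le_inf (F.gen S hS.le le_rfl fun W w => (h (F.p23 W w) (F.dvd W w)).elim) (PLoc.JOf_le K)
  rwa [modl_r (normC (hS.le.trans VZ_norm)) hS.le, inf_comm] at this

/-- The pushing up theorem: `K` is generated by normalizers of subgroups of `S` also normalized by `X`. -/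
theorem push (hS : Syl p S K) (h0 : S ≠ ⊥) (hP : P ≤ S) (nP : K ≤ N[P]) (zP : Ω[p](Z[S]) ≤ P) (hs : Sol K)
    (n1 : A ≤ N[K]) (n2 : A ≤ N[S]) (n3 : A ≤ N[X]) (n4 : X ≤ N[S]) (hB : B ≤ A) (pB : PiG π B) (pK : PiG πᶜ K)
    (sB : Sol B) (hΘ : Θ ≤ C[B]) (sΘ : Sol Θ) (t1 : K ⊓ C[B] ≤ Θ) (t2 : X ≤ Θ)
    (hH : ∀ Y, Y ≠ ⊥ → Y ≤ S → S ⊔ A ⊔ X ≤ N[Y] → K ⊓ N[Y] ≤ H) : K ≤ H := by
  have nS : S ⊔ A ⊔ X ≤ N[S] := sup_le (sup_le (normG S) n2) n4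
  have mK : S ⊔ A ≤ N[K] := sup_le (normsG hS.le) n1
  have v1 := VZ_le hP nP zP
  have v0 := le_VZ (p := p) (K := K) (S := S)
  have v5 := VZ_norm (p := p) (K := K) (S := S)
  have v6 := norm_VZ (p := p) mK (le_sup_left.trans nS)
  obtain ⟨𝒱₀, F⟩ := ffs_VZ hS hP nP zP hs (hB.trans n1) (hB.trans n2) pB pK sB
  generalize VZ p K S = V₀ at *
  have v2 := (OmZ_abelem p P).of_le v1
  have v3 := v1.trans ((OmZ_le p P).trans hP)
  have J := PLoc.JOf_le (e := p) S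
  have JK := PLoc.JOf_le (e := p) K
  have nJ : S ⊔ A ⊔ X ≤ N[JOf p S] := nS.trans (PLoc.normalizer_le_normalizer_JOf S)
  have pm : ∀ g ∈ S ⊔ A, ∀ W ∈ 𝒱₀, cj g W ∈ 𝒱₀ := fun g a => F.perm g ⟨mK a, v6 a⟩
  let 𝒱 := {W ∈ 𝒱₀ | ∀ Y, Y ≠ ⊥ → Y ≤ S → S ⊔ A ⊔ X ≤ N[Y] → K ⊓ N[Y] ⊓ N[W] ≤ N[W ⊓ C[JOf p S]]}
  rcases 𝒱.eq_empty_or_nonempty with e | ⟨W₀, w₀⟩
  · have SH : S ≤ H := (le_inf hS.le (normG S)).trans (hH S h0 le_rfl nS)
    have a := le_inf (F.gen (H ⊓ K) inf_le_right (le_inf SH hS.le) fun W w i => e.le (show W ∈ 𝒱 from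
      ⟨w, fun Y y1 y2 y3 => (inf_le_inf_right _ (le_inf (hH Y y1 y2 y3) inf_le_left)).trans i⟩)) JK
    rw [modl_r (normC (inf_le_right.trans v5)) inf_le_right] at a
    have n := PLoc.le_normalizer_JOf (e := p) K
    refine (Syl.frattini (hS.inf_norm' JK n) hp.out JK n).sup.ge.trans (sup_le (a.trans (sup_le inf_le_left
      (le_trans (le_inf inf_le_right (cents_norm (inf_le_left.trans (centS v0))))
        (hH _ (hS.pi.OmZ_ne_bot h0) (OmZ_le p S) (normOmZ p nS)))))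
      (le_trans (inf_le_inf_left _ ?_) (hH _ (PLoc.JOf_ne_bot (hS.pi.pg hp.out) h0 dvd_rfl) J nJ)))
    rw [← PLoc.JOf_eq_of_le (le_inf J (JOf_mono hS)) inf_le_left]
    exact PLoc.normalizer_le_normalizer_JOf _
  exfalso
  let T := S ⊓ C[ZJOf p S]
  have JT : JOf p S ≤ T := le_inf J (cent_symm (PLoc.ZJOf_le_centralizer S))
  have nT : N[S] ≤ N[T] := normI le_rfl (normC (PLoc.normalizer_le_normalizer_ZJOf S))
  have ln : ∀ W ∈ 𝒱₀, W ⊓ C[T] = W ⊓ C[JOf p S] := fun W w => le_antisymm (inf_le_inf_left _ (centS JT))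
    (le_inf inf_le_left (cent_symm (inf_le_right.trans (centS fun x a =>
      PLoc.mem_ZJOf (v3 (F.le W w a.1)) (v2.pow x (F.le W w a.1)) a.2))))
  have pl : ∀ W ∈ 𝒱₀, (#(W ⊓ C[T])).Prime := fun W w => by rw [ln W w, F.ln W w]; exact hp.out
  have TW : ∀ W ∈ 𝒱₀, T ≤ N[W] := fun W w t a => mem_N_iff_cj.2 (by_contra fun e => ne_bot_of_prime (pl W w)
    (eq_bot_iff.2 ((le_inf inf_le_left (((cj_of_mem_C (cent_symm inf_le_right a)).ge.trans (cj_mono t inf_le_left)).trans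
      (le_Oth (pm t (mem_sup_left a.1) W w) e))).trans (F.ind W w).le)))
  have pm' : ∀ g ∈ S ⊔ A, ∀ W ∈ 𝒱, cj g W ∈ 𝒱 := fun g a W w => ⟨pm g a W w.1, fun Y y1 y2 y3 => by
    rw [← cj_of_mem_N (mK a), ← cj_of_mem_N (y3 (mem_sup_left a)), ← cj_of_mem_N (nJ (mem_sup_left a)), ← cj_C,
      ← cj_inf, ← cj_N, ← cj_N, ← cj_N, ← cj_inf, ← cj_inf]
    exact cj_mono g (w.2 Y y1 y2 y3)⟩
  set V := sSup 𝒱 with hV
  have u1 : V ≤ V₀ := sSup_le fun W w => F.le W w.1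
  have u2 := v2.of_le u1
  have u3 := u1.trans v3
  have u4 : S ⊔ A ≤ N[V] := fun g a => mem_N_of_cj_le (cj_le_iff.2 (sSup_le fun W w =>
    cj_le_iff.1 (le_sSup (pm' g a W w))))
  have u5 : JOf p K ≤ N[V] := norm_sSup fun W w => F.nJ W w.1
  have u0 : V ≠ ⊥ := fun e => ne_bot_of_prime (pl W₀ w₀.1) (eq_bot_iff.2 (inf_le_left.trans ((le_sSup w₀).trans e.le)))
  have ps : PS 𝒱 T := ⟨u2.abel, fun W w => eq_bot_iff.2 ((inf_le_inf_left _ (sSup_le_sSup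
    (Set.sdiff_subset_sdiff_left fun U (a : U ∈ 𝒱) => a.1))).trans (F.ind W w.1).le), fun W w => pl W w.1,
    fun W w => comm_line (F.card W w.1) (hS.pi.of_le inf_le_left) (TW W w.1)⟩
  have rp := fun A => replace (A := A) u2 u3 (fun W w => ⟨F.card W w.1, F.p23 W w.1⟩)
    fun W w => (JOf_mono hS).trans (F.nJ W w.1)
  let R := S ⊓ C[V]
  have z1 : V ≤ ZJOf p R := fun x a => PLoc.mem_ZJOf ⟨u3 a, u2.abel a⟩ (u2.pow x a)
    (cent_symm ((PLoc.JOf_le R).trans inf_le_right) a)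
  obtain ⟨A₀, a₀⟩ := PLoc.maxEA_nonempty (e := p) S
  obtain ⟨A₁, a₁, -, a₂⟩ := rp A₀ a₀
  have z2 : ZJOf p S ≤ ZJOf p R := PLoc.ZJOf_le_ZJOf a₁ (le_inf a₁.1 a₂) inf_le_left
  have z3 : ZJOf p R ≤ N[V] := cents_norm ((PLoc.ZJOf_le R).trans inf_le_right)
  have VT : V ≤ T := le_inf u3 (centSS (abelem_iff.2 (PLoc.isEA_ZJOf R)).abel z1 z2)
  let Q := T ⊓ C[V]
  have eQ : Q = R ⊓ C[ZJOf p S ⊔ V] := by
    rw [C_sup]
    exact le_antisymm (le_inf (inf_le_inf_right _ inf_le_left) (inf_le_inf_right _ inf_le_right))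
      (le_inf (inf_le_inf inf_le_left inf_le_left) (inf_le_left.trans inf_le_right))
  let M := K ⊓ N[V]
  have SM : S ≤ M := le_inf hS.le (le_sup_left.trans u4)
  have c1 : K ⊓ C[V] ≤ M := inf_le_inf_left _ (C_le_N V)
  have c2 : M ≤ N[K ⊓ C[V]] := normI (normsG inf_le_left) (normC inf_le_right)
  have fr := Syl.frattini ((hS.sub SM inf_le_left).inf_norm' c1 c2) hp.out c1 c2
  rw [← inf_assoc, inf_eq_left.2 hS.le] at fr
  have g1 : JOf p K ≤ K ⊓ C[V] ⊔ M ⊓ N[R] ⊓ St (ZJOf p R) V := by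
    refine JOf_le_of hS (le_trans (le_inf (le_inf (J.trans SM) (J.trans (normI (normG S)
      (normC (le_sup_left.trans u4))))) (PLoc.JOf_le_iff.2 fun A a => (le_St z1 z3).2 ?_)) le_sup_right)
      ((le_inf JK u5).trans (fr.sup.ge.trans (sup_le (normsG le_sup_left) (normY (inf_le_left.trans c2)
        (normI (normG _) (norm_pre (inf_le_left.trans inf_le_right) (normC (im_norm
          (inf_le_right.trans (PLoc.normalizer_le_normalizer_ZJOf R))))))))))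
    obtain ⟨B, b1, b2, b3⟩ := rp A a
    exact (commS ((PLoc.ZJOf_le_of_mem (PLoc.mem_maxEA_of_le b1 (le_inf b1.1 b3) inf_le_left)).trans b2) le_rfl).trans
      (comm_sup_le ((abel_iff_der.1 (abelem_iff.2 a.2.1).abel).le.trans bot_le)
        (commL (a.1.trans (le_sup_left.trans u4))) (a.1.trans (le_sup_left.trans u4)) (normG V))
  have g2 : M ⊓ N[R] ⊓ St (ZJOf p R) V ≤ M ⊓ N[Q] := le_inf (inf_le_left.trans inf_le_left) (eQ ▸ normI
    (inf_le_left.trans inf_le_right) (normC (norm_of_comm_le (((le_St z1 z3).1 inf_le_right).trans le_sup_right)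
      (sup_le z2 z1))))
  have nQ : S ⊔ A ≤ N[Q] := normI (le_sup_left.trans (nS.trans nT)) (normC u4)
  have BM := hB.trans (le_sup_right (a := S))
  have cp : (#B).Coprime #K := (PiN.coprime' pK pB).symm
  have g3 := cop_mul_cent (normI (hB.trans n1) (normC (BM.trans u4))) (normI (normI (hB.trans n1) (normN (BM.trans u4)))
    (normN (BM.trans nQ))) (isProd_l ((inf_le_left (a := M) (b := N[Q])).trans c2))
    (coprimeS cp le_rfl (inf_le_left.trans inf_le_left)) (.inl sB)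
  let D := K ⊓ C[B] ⊓ N[Q] ⊓ ⨅ W : 𝒱, N[W.1]
  have dW : ∀ W ∈ 𝒱, D ≤ N[W] := fun W w => inf_le_right.trans (iInf_le (fun W : 𝒱 => N[W.1]) ⟨W, w⟩)
  have dV : D ≤ N[V] := norm_sSup dW
  have dK : D ≤ K ⊓ C[B] := inf_le_left.trans inf_le_left
  have ex : ∀ W ∈ 𝒱, ∃ c ∈ D, c ∉ N[W ⊓ C[T]] := fun W w => by
    obtain ⟨x, x1, x2⟩ := SetLike.not_le_iff_exists.1 (F.ex W w.1)
    obtain ⟨m, m1, c, c1, rfl⟩ := g3.ex x ⟨(g1.trans (sup_le_sup_left g2 _)) x1.1, x1.2⟩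
    have m2 : ∀ U ≤ V, m ∈ N[U] := fun U a => C_le_N U (centS a m1.1.2)
    refine ⟨c, ⟨⟨⟨c1.1.1.1, c1.2⟩, c1.1.2⟩, mem_iInf.2 fun U => ?_⟩, fun i =>
      x2 (mul_mem (m2 _ (inf_le_left.trans (le_sSup w))) (ln W w.1 ▸ i))⟩
    simpa using mul_mem (inv_mem (m2 _ (le_sSup U.2))) (F.nJ U U.2.1 x1.1)
  have ex' : ∀ W ∈ 𝒱, ∃ c ∈ D, W ≤ W ⊓ C[T] ⊔ cj c (W ⊓ C[T]) := fun W w => (ex W w).imp fun c i =>
    ⟨i.1, line_sup (F.card W w.1) inf_le_left (ln W w.1 ▸ F.ln W w.1) (dW W w i.1) i.2⟩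
  have psb : PSB 𝒱 T B Θ := ⟨ps, fun b a => pm' b (BM a), fun W w => F.cen W w.1, hB.trans (n2.trans nT),
    (inf_le_inf_right _ (u3.trans hS.le)).trans t1, fun W w => (ex' W w).imp fun c i =>
      ⟨t1 (dK i.1), fun U a => dW U a i.1, i.2⟩⟩
  let Y := ⨆ y : X, cj (y : G) V
  have y1 : ∀ y ∈ X, cj y V ≤ Y := fun y a => le_iSup (fun y : X => cj (y : G) V) ⟨y, a⟩
  have y2 : V ≤ Y := cj_one V ▸ y1 1 (one_mem X)
  have y3 : ∀ g, (∀ y ∈ X, cj (g * y) V ≤ Y) → g ∈ N[Y] := fun g a => mem_N_of_cj_le (cj_le_iff.2 (iSup_le fun y =>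
    le_cj_iff.2 (by rw [inv_inv, ← cj_mul]; exact a y y.2)))
  have y4 : S ⊔ A ⊔ X ≤ N[Y] := sup_le (sup_le (fun g a => y3 g fun y b => by
    rw [← mul_inv_cancel_left y (g * y), cj_mul, ← mul_assoc, cj_of_mem_N (u4 (mem_sup_left (conj_mem' (n4 b) a)))]
    exact y1 y b) fun g a => y3 g fun y b => by
      rw [← inv_mul_cancel_right (g * y) g, cj_mul, cj_of_mem_N (u4 (mem_sup_right a))]
      exact y1 _ (conj_mem (n3 a) b)) fun g a => y3 g fun y b => y1 _ (mul_mem a b)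
  have am := amalgam (N := N[T]) (U := N[V] ⊓ N[Q]) (le_inf VT u2.abel) inf_le_left le_rfl le_rfl inf_le_left
    inf_le_right (n4.trans nT) (le_inf dV (inf_le_left.trans inf_le_right))
    (fun g a b c => by
      rw [cj_sSup] at b ⊢
      exact psb.commute (psb.cj hΘ (sup_le t2 (dK.trans t1) a)) hΘ sΘ sB (coprimeS cp le_rfl (u3.trans hS.le)) b c)
    (fun g a b c => ps.shift (inf_le_left.trans hS.le) (dK.trans inf_le_left) y2 dV
      (fun W w => (ex' W w).imp fun c i => ⟨i.1, dW W w i.1, i.2⟩)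
      (fun W w => ln W w.1 ▸ w.2 Y (fun e => u0 (eq_bot_iff.2 (y2.trans e.le)))
        (iSup_le fun y => cj_le_of_mem u3 (n4 y.2)) y4) a b
      fun d i => cj_le_iff.2 (iSup_le fun y => cj_le_iff.1 (cj_mul d y V ▸ c d i y y.2)))
  let Z := ⨆ g : ↥(N[T] ⊔ N[V] ⊓ N[Q]), cj (g : G) V
  have s1 : ∀ g ∈ N[T] ⊔ N[V] ⊓ N[Q], cj g V ≤ Z := fun g a =>
    le_iSup (fun g : ↥(N[T] ⊔ N[V] ⊓ N[Q]) => cj (g : G) V) ⟨g, a⟩
  have s2 : N[T] ⊔ N[V] ⊓ N[Q] ≤ N[Z] := fun g a => mem_N_of_cj_le (cj_le_iff.2 (iSup_le fun y =>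
    le_cj_iff.2 (by rw [inv_inv, ← cj_mul]; exact s1 _ (mul_mem a y.2))))
  obtain ⟨c, c1, c2⟩ := ex W₀ w₀
  exact c2 (ln W₀ w₀.1 ▸ w₀.2 Z (fun e => u0 (eq_bot_iff.2 ((cj_one V ▸ s1 1 (one_mem _)).trans e.le)))
    (iSup_le fun g => (am g g.2).trans (inf_le_left.trans inf_le_left)) (nS.trans (nT.trans (le_sup_left.trans s2)))
    ⟨⟨(dK c1).1, s2 (mem_sup_right ⟨dV c1, c1.1.2⟩)⟩, dW W₀ w₀ c1⟩)

end Cfsg.Agent.Fac
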