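import Cfsg.Agent.BG.S02
import Cfsg.Agent.PLoc.SL2
/-!
Subgroups of order `p` in `SL(2, p)`, and the action on an elementary abelian group of order `p ^ 2`.
-/
set_option autoImplicit false
set_option linter.unusedSectionVars false

namespace Cfsg.Agent.Fac
open Subgroup Cfsg.Agent.BG PHom
open Cfsg.Agent.PLoc (upT loT trS sl2_ext sl2_mul sl2_det upT_inv upT_pow)
open scoped MatrixGroups

section
variable {K : Type*} [Field K] {b : SL(2, K)}

theorem exists_conj_loT (ht : trS b = 2) (h : b 1 0 ≠ 0) : ∃ t, upT t * b * (upT t)⁻¹ = loT (b 1 0) := by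
  have d := sl2_det b
  have e : b 1 1 = 2 - b 0 0 := by rw [← ht, trS]; ring
  rw [e] at d
  refine ⟨(1 - b 0 0) / b 1 0, sl2_ext ?_ ?_ ?_ ?_⟩ <;>
    simp only [upT_inv, sl2_mul, PLoc.upT_00, PLoc.upT_01, PLoc.upT_10, PLoc.upT_11, PLoc.loT_00, PLoc.loT_01,
      PLoc.loT_10, PLoc.loT_11, e] <;> field_simp
  · ring
  · linear_combination -d
  · ring
  · ring

theorem eq_upT (ht : trS b = 2) (h : b 1 0 = 0) : b = upT (b 0 1) := by
  have d := sl2_det b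
  have e : b 1 1 = 2 - b 0 0 := by rw [← ht, trS]; ring
  rw [e, h] at d
  have a : b 0 0 = 1 := by
    have : (b 0 0 - 1) ^ 2 = 0 := by linear_combination -d
    exact sub_eq_zero.1 (pow_eq_zero_iff two_ne_zero |>.1 this)
  refine sl2_ext ?_ rfl ?_ ?_ <;> simp [a, e, h]
  norm_num

theorem exists_conj_upT (ht : trS b = 2) : ∃ g s, g * b * g⁻¹ = upT s := by
  by_cases h : b 1 0 = 0
  · exact ⟨1, _, by simpa using eq_upT ht h⟩
  obtain ⟨t, e⟩ := exists_conj_loT ht h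
  let w : SL(2, K) := ⟨!![0, 1; -1, 0], by simp [Matrix.det_fin_two_of]⟩
  refine ⟨w * upT t, -b 1 0, ?_⟩
  have : w * upT t * b * (w * upT t)⁻¹ = w * (upT t * b * (upT t)⁻¹) * w⁻¹ := by group
  rw [this, e, mul_inv_eq_iff_eq_mul]
  refine sl2_ext ?_ ?_ ?_ ?_ <;> rw [sl2_mul, sl2_mul] <;> simp [w]
end

variable {p : ℕ} [hp : Fact p.Prime]

theorem upT_mem_zpowers {s : ZMod p} (hs : s ≠ 0) (t : ZMod p) : upT t ∈ zpowers (upT s) := by
  have : upT t = upT s ^ (t / s).val := by rw [upT_pow, ZMod.natCast_zmod_val, div_mul_cancel₀ _ hs]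
  rw [this]; exact pow_mem (mem_zpowers _) _

theorem sl2_gen {L : Subgroup SL(2, ZMod p)} {a b : SL(2, ZMod p)} (ha : a ∈ L) (hb : b ∈ L) (a1 : a ≠ 1)
    (pa : a ^ p = 1) (pb : b ^ p = 1) (h : b ∉ zpowers a) : L = ⊤ := by
  have tr : ∀ x : SL(2, ZMod p), x ^ p = 1 → trS x = 2 := fun x hx =>
    PLoc.trS_eq_two_of_pow (p := p) (k := 1) (by simpa using hx)
  obtain ⟨g, s, e⟩ := exists_conj_upT (tr a pa)
  have hs : s ≠ 0 := by
    rintro rfl
    rw [PLoc.upT_zero, mul_inv_eq_one, mul_eq_left] at e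
    exact a1 e
  rw [← cj_eq_top (g := g)]
  have h1 : zpowers (upT s) ≤ cj g L := by rw [← e, ← cj_zpowers]; exact cj_mono g (zpowers_le.2 ha)
  have h2 : g * b * g⁻¹ ∈ cj g L := mem_cj_conj.2 hb
  have t2 : trS (g * b * g⁻¹) = 2 := by rw [PLoc.trS_conj]; exact tr b pb
  by_cases h0 : (g * b * g⁻¹) 1 0 = 0
  · refine (h (mem_cj_conj (g := g).1 ?_)).elim
    rw [cj_zpowers, e, eq_upT t2 h0]; exact upT_mem_zpowers hs _
  obtain ⟨t, e2⟩ := exists_conj_loT t2 h0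
  have ut := h1 (upT_mem_zpowers hs t)
  rw [eq_top_iff, ← PLoc.closure_upT_loT_zmod hs h0, closure_le]
  rintro x (rfl | rfl)
  · exact h1 (mem_zpowers _)
  · rw [← e2]; exact mul_mem (mul_mem ut h2) (inv_mem ut)

theorem card_sl2 : Nat.card SL(2, ZMod p) = p * (p ^ 2 - 1) := by
  rw [Class.card_SL2, ZMod.card]

theorem two_or_three (h : PiG {p}ᶜ ⁅(⊤ : Subgroup SL(2, ZMod p)), (⊤ : Subgroup SL(2, ZMod p))⁆) : p = 2 ∨ p = 3 := by
  by_contra hn
  push Not at hn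
  have h2 : (2 : ZMod p) ≠ 0 := PLoc.two_ne_zero_of_ne hn.1
  let d : SL(2, ZMod p) := ⟨!![2, 0; 0, 2⁻¹], by simp [Matrix.det_fin_two_of, h2]⟩
  have e : d * upT 1 * d⁻¹ * (upT 1)⁻¹ = upT 3 := by
    rw [mul_inv_eq_iff_eq_mul, mul_inv_eq_iff_eq_mul]
    refine sl2_ext ?_ ?_ ?_ ?_ <;> simp only [sl2_mul] <;> simp [d]
    field_simp; norm_num
  have a : upT (3 : ZMod p) ∈ ⁅(⊤ : Subgroup SL(2, ZMod p)), (⊤ : Subgroup SL(2, ZMod p))⁆ := e ▸ comm_mem (mem_top _) (mem_top _)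
  have b := (pie_of_pow hp.out (PLoc.upT_pow_char (p := p) (3 : ZMod p))).eq_one (h.elt a)
  have c : (3 : ZMod p) = 0 := by simpa using congrArg (fun x : SL(2, ZMod p) => x 0 1) b
  have := (ZMod.natCast_eq_zero_iff 3 p).1 (by exact_mod_cast c)
  exact hn.2 ((Nat.prime_dvd_prime_iff_eq hp.out Nat.prime_three).1 this)

theorem der_sl2_three : ¬ Abel ⁅(⊤ : Subgroup SL(2, ZMod 3)), (⊤ : Subgroup SL(2, ZMod 3))⁆ := fun h => by
  have a := mem_C_comm h (comm_mem (mem_top (upT 1)) (mem_top (loT 1))) (comm_mem (mem_top (upT 1)) (mem_top (loT 2)))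
  have := congrArg (fun x : SL(2, ZMod 3) => x 0 0) a
  simp only [upT_inv, PLoc.loT_inv, sl2_mul, PLoc.upT_00, PLoc.upT_01, PLoc.upT_10, PLoc.upT_11, PLoc.loT_00,
    PLoc.loT_01, PLoc.loT_10, PLoc.loT_11] at this
  revert this; decide

variable {G : Type*} [Group G] [Finite G] {A B D E W : Subgroup G} {φ : PHom G SL(2, ZMod p)}

/-- `φ` is the action on `W` of the elements of determinant one -/
structure SLrep (W : Subgroup G) (φ : PHom G SL(2, ZMod p)) : Prop where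
  ker : φ.ker = C[W]
  dom : φ.dom ≤ N[W]
  mem : ∀ x ∈ N[W], x ^ p ∈ C[W] → x ∈ φ.dom

theorem exists_slrep (hW : PnElem p 2 W W) : ∃ φ : PHom G SL(2, ZMod p), SLrep W φ := by
  obtain ⟨ε, ρ, -, -, h3, -⟩ := hW.exists_gl
  let D := (Matrix.GeneralLinearGroup.det.comp ρ).ker
  let f : D →* SL(2, ZMod p) := MonoidHom.mk' (fun x => ⟨(ρ x).1, congrArg Units.val x.2⟩) fun x y =>
    Subtype.ext (congrArg Units.val (ρ.map_mul x y))
  let e := D.equivMapOfInjective _ N[W].subtype_injective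
  have hm : ∀ x : N[W], ρ x ^ p = 1 → x ∈ D := fun x hx => by
    have := congrArg Matrix.GeneralLinearGroup.det hx
    rw [map_pow, map_one] at this
    have a := congrArg Units.val this
    rw [Units.val_pow_eq_pow_val, ZMod.pow_card] at a
    exact Units.ext a
  have hk : ∀ x : N[W], ρ x = 1 ↔ (x : G) ∈ C[W] := fun x => by rw [← MonoidHom.mem_ker, h3, mem_subgroupOf]
  refine ⟨⟨_, f.comp e.symm.toMonoidHom⟩, ?_, map_subtype_le _, fun x hx h => ⟨⟨x, hx⟩, hm _ ?_, rfl⟩⟩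
  · ext x
    rw [PHom.mem_ker]
    refine ⟨fun ⟨h, a⟩ => ?_, fun h => ?_⟩
    · obtain ⟨y, hy⟩ := e.surjective ⟨x, h⟩
      rw [app_eq h, ← hy] at a
      change f (e.symm (e y)) = 1 at a
      rw [e.symm_apply_apply] at a
      have : ρ y = 1 := Units.ext (congrArg Subtype.val a)
      have b : ((y : N[W]) : G) = x := congrArg Subtype.val hy
      exact b ▸ (hk _).1 this
    · have a := (hk ⟨x, C_le_N W h⟩).2 h
      have b : (⟨x, C_le_N W h⟩ : N[W]) ∈ D := hm _ (by rw [a, one_pow])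
      have c : x ∈ D.map N[W].subtype := ⟨_, b, rfl⟩
      refine ⟨c, ?_⟩
      rw [app_eq c]
      change f (e.symm (e ⟨_, b⟩)) = 1
      rw [e.symm_apply_apply]
      exact Subtype.ext (congrArg Units.val a)
  · rw [← map_pow, hk]; exact h

theorem SLrep.le (h : SLrep W φ) (h1 : A ≤ N[W]) (h2 : #A = p) : A ≤ φ.dom := fun x hx =>
  h.mem x (h1 hx) (by rw [pow_eq_one_of_card h2 hx]; exact one_mem _)

theorem SLrep.im_top (h : SLrep W φ) (hE : E ≤ φ.dom) (hA : A ≤ E) (hB : B ≤ E) (cA : #A = p) (cB : #B = p)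
    (h1 : ¬ A ≤ C[W]) (h2 : ¬ B ≤ A ⊔ C[W]) : φ.im E = ⊤ := by
  obtain ⟨a, ha, ha'⟩ := SetLike.not_le_iff_exists.1 h1
  obtain ⟨b, hb, hb'⟩ := SetLike.not_le_iff_exists.1 h2
  refine sl2_gen (app_mem_im (hA ha) (hE (hA ha))) (app_mem_im (hB hb) (hE (hB hb)))
    (fun e => ha' (h.ker ▸ PHom.mem_ker.2 ⟨hE (hA ha), e⟩)) ?_ ?_ fun e => hb' ?_
  · rw [← app_pow (hE (hA ha)), pow_eq_one_of_card cA ha, app_one]
  · rw [← app_pow (hE (hB hb)), pow_eq_one_of_card cB hb, app_one]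
  · rw [← im_zpowers (hE (hA ha))] at e
    rw [← h.ker, ← pre_im (hA.trans hE)]
    exact mem_pre.2 ⟨hE (hB hb), im_mono (zpowers_le.2 ha) e⟩

theorem SLrep.le_sup (h : SLrep W φ) (hE : E ≤ φ.dom) (e : φ.im E = ⊤) (hD : D ≤ φ.dom) : D ≤ E ⊔ C[W] := by
  rw [← h.ker, ← im_le_im_iff hD hE, e]; exact le_top

theorem SLrep.equiv (h : SLrep W φ) (hE : E ≤ φ.dom) (e : φ.im E = ⊤) (h1 : E ⊓ C[W] = ⊥) :
    Nonempty (E ≃* SL(2, ZMod p)) :=
  ⟨(PHom.equiv hE (h.ker ▸ h1)).trans ((MulEquiv.subgroupCongr e).trans topEquiv)⟩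

theorem SLrep.equiv_quo (h : SLrep W φ) (hE : E ≤ φ.dom) (e : φ.im E = ⊤) :
    ∃ _ : (C[W].subgroupOf E).Normal, Nonempty (E ⧸ C[W].subgroupOf E ≃* SL(2, ZMod p)) := by
  have a := res_ker hE
  rw [h.ker] at a
  have : (C[W].subgroupOf E).Normal := a ▸ inferInstance
  refine ⟨this, ⟨(QuotientGroup.quotientMulEquivOfEq a.symm).trans
    ((QuotientGroup.quotientKerEquivOfSurjective _ (res_surj hE)).trans ((MulEquiv.subgroupCongr e).trans topEquiv))⟩⟩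

theorem SLrep.card (h : SLrep W φ) (hE : E ≤ φ.dom) (e : φ.im E = ⊤) : C[W].relIndex E = p * (p ^ 2 - 1) := by
  rw [← h.ker, ← card_im hE, e, card_top, card_sl2]

end Cfsg.Agent.Fac
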