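import Cfsg.Agent.Fac.FF
/-!
The structure of failure of factorization modules for `p`-separable groups.
-/
set_option autoImplicit false
set_option linter.unusedSectionVars false

namespace Cfsg.Agent.Fac
open Subgroup Cfsg.Agent.BG PHom
open Cfsg.Agent.Comp (SubIn)
open scoped MatrixGroups

variable {G : Type*} [Group G] [Finite G] {A B D E H K R S T U V W : Subgroup G} {p : ℕ} {x g : G}
variable [hp : Fact p.Prime]

theorem TV.nQ (hA : TV p V H A) : A ≤ N[O[{p}ᶜ](H)] := hA.le.trans (O_norm _ _)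
theorem TV.sd (hA : TV p V H A) : Sdprod O[{p}ᶜ](H) A (O[{p}ᶜ](H) ⊔ A) := sdprod_sup ((O_pig _ _).inf_bot' hA.pig) hA.nQ
theorem TV.cop (hA : TV p V H A) : (#A).Coprime #O[{p}ᶜ](H) := (PiN.coprime' (O_pig _ _) hA.pig).symm

theorem TV.pair_sd (hA : TV p V H A) (hx : x ∈ O[{p}ᶜ](H)) : Sdprod (O[{p}ᶜ](H) ⊓ (A ⊔ BG.cj x A)) A (A ⊔ BG.cj x A) :=
  hA.sd.modr' le_sup_left (sup_le le_sup_right (cj_le_of_mem le_sup_right (normG _ (mem_sup_left hx))))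

theorem TV.pair_le (hA : TV p V H A) (h1 : T ≤ O[{p}ᶜ](H)) (h2 : A ≤ N[T]) (hx : x ∈ T) : O[{p}ᶜ](H) ⊓ (A ⊔ BG.cj x A) ≤ T := by
  have a : A ⊔ BG.cj x A ≤ T ⊔ A := sup_le le_sup_right (cj_le_of_mem le_sup_right (normG _ (mem_sup_left hx)))
  refine (inf_le_inf_left _ a).trans ?_
  rw [inf_comm, modl_l h2 h1, inf_comm, hA.sd.inf, sup_bot_eq]

theorem TV.pair_le_comm (hA : TV p V H A) (hx : x ∈ O[{p}ᶜ](H)) : O[{p}ᶜ](H) ⊓ (A ⊔ BG.cj x A) ≤ ⁅O[{p}ᶜ](H), A⁆ := by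
  have a : A ⊔ BG.cj x A ≤ ⁅O[{p}ᶜ](H), A⁆ ⊔ A := sup_le le_sup_right (cj_le_of_mem le_sup_right (norm_clos _ _ hx))
  refine (inf_le_inf_left _ a).trans ?_
  rw [inf_comm, modl_l (comm_normr _ _) (commL hA.nQ), inf_comm, hA.sd.inf, sup_bot_eq]

theorem TV.pair (hA : TV p V H A) (h : FF p V H) (hx : x ∈ O[{p}ᶜ](H)) (hx' : x ∉ C[A]) :
    Plane p V H (O[{p}ᶜ](H) ⊓ (A ⊔ BG.cj x A)) A := by
  have s := hA.pair_sd hx
  have hB := hA.cj (normG H (O_le _ _ hx)) (h.nV (O_le _ _ hx))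
  have pR : PiG {p}ᶜ (O[{p}ᶜ](H) ⊓ (A ⊔ BG.cj x A)) := (O_pig _ _).of_le inf_le_left
  refine ⟨h, hA, inf_le_left.trans (O_le _ _), s.norm, pR, ?_, fun e => hx' ?_, ?_⟩
  · obtain ⟨g, hg, a⟩ := Syl.sub_cj (s.hall_r pR hA.pig) hp.out le_sup_right hB.pig
    have n := sup_le (norm_clos (O[{p}ᶜ](H) ⊓ (A ⊔ BG.cj x A)) A) (normsG le_sup_right)
    rw [s.sup] at n
    have b := le_inf ((inf_le_right (a := O[{p}ᶜ](H))).trans
      (sup_le le_sup_right (a.trans (cj_le_of_mem le_sup_right (n hg))))) le_rfl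
    rwa [modl_l (comm_normr _ _) (commL s.norm), inf_comm A, s.inf, sup_bot_eq] at b
  · have := s.sup
    rw [e, bot_sup_eq] at this
    exact ((inf_N_eq_inf_C hA.nQ (inf_comm A _ ▸ hA.sd.inf)).le ⟨hx, mem_N_of_cj_le (le_sup_right.trans this.ge)⟩).2
  · rw [s.sup, comm_sup_eq (hA.le.trans h.nV) (hB.le.trans h.nV), pow_two]
    have := card_sup_dvd_l (cents_norm (centSS h.ab.abel (commL (hB.le.trans h.nV)) (commL (hA.le.trans h.nV))))
    rw [hA.card_comm h, hB.card_comm h] at this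
    exact Nat.le_of_dvd (Nat.mul_pos hp.out.pos hp.out.pos) this

theorem TV.exists_not_cent (hA : TV p V H A) (h : FF p V H) : ∃ x ∈ O[{p}ᶜ](H), x ∉ C[A] :=
  SetLike.not_le_iff_exists.1 fun e => hA.ne (h.eq_bot hA.le hA.pig (cent_symm e))

theorem TV.two_or_three (hA : TV p V H A) (h : FF p V H) : p = 2 ∨ p = 3 := by
  obtain ⟨x, a, b⟩ := hA.exists_not_cent h
  exact (hA.pair h a b).two_or_three

theorem TV.comm_pig (hA : TV p V H A) (h : FF p V H) : PiG {5 - p} ⁅O[{p}ᶜ](H), A⁆ := by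
  have r : (5 - p).Prime ∧ 5 - p ∣ p ^ 2 - 1 := by rcases hA.two_or_three h with rfl | rfl <;> norm_num
  obtain ⟨T, t1, t2⟩ := cop_syl_exists hA.nQ hA.cop (.inl hA.abel.sol) r.1
  have a : PiN {5 - p} ((O[{p}ᶜ](H) ⊓ C[A]).relIndex O[{p}ᶜ](H)) := fun s hs hd => by
    obtain ⟨S, s1, s2⟩ := cop_syl_exists hA.nQ hA.cop (.inl hA.abel.sol) hs
    have : ¬ S ≤ C[A] := fun e => Syl.not_dvd s1 hs (hd.trans (relIndex_dvd_left (le_inf s1.le e) _))
    obtain ⟨x, x1, x2⟩ := SetLike.not_le_iff_exists.1 this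
    have b := s1.pi.of_le (hA.pair_le s1.le s2 x1)
    exact (PiN.eq_prime b r.1 ((hA.pair h (s1.le x1) x2).card_R ▸ r.2)).symm
  refine t1.pi.of_le (comm_le_iff.2 fun q hq b hb => ?_)
  obtain ⟨t, ht, c, hc, rfl⟩ := (t1.prod_idx inf_le_left a).ex q hq
  have : t * c * b * (t * c)⁻¹ * b⁻¹ = t * b * t⁻¹ * b⁻¹ := by
    rw [mul_assoc t c b, ← mem_C.1 hc.2 b hb]; group
  exact this ▸ commL t2 (comm_mem ht hb)

theorem TV.plane (hA : TV p V H A) (h : FF p V H) : Plane p V H ⁅O[{p}ᶜ](H), A⁆ A := by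
  obtain ⟨x, x1, x2⟩ := hA.exists_not_cent h
  have l := commL hA.nQ
  have P := hA.pair h x1 x2
  refine ⟨h, hA, l.trans (O_le _ _), comm_normr _ _, (O_pig _ _).of_le l,
    (cop_comm_comm hA.nQ hA.cop (.inl hA.abel.sol)).ge, fun e => x2 (comm_eq_bot.1 e x1), le_trans (card_le ?_) P.card_W.le⟩
  have st := le_St (A := A) P.leV (abel_norm h.ab.abel P.leV)
  have a := st.2 ((commS le_rfl le_sup_right).trans P.eq.le)
  refine (le_St P.leV (abel_norm h.ab.abel P.leV)).1 (sup_le (comm_le_iff.2 fun y hy b hb =>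
    mul_mem ?_ (inv_mem (a hb))) a)
  by_cases y2 : y ∈ C[A]
  · rw [← mem_C.1 y2 b hb, mul_inv_cancel_right]; exact a hb
  have P' := hA.pair h hy y2
  have s := sup_le (hA.pair_le_comm x1) (hA.pair_le_comm hy)
  have n := (hA.comm_pig h).nil.of_le s
  rcases P.cmp P' (Core.subIn_of_isNilpotent n le_sup_left) (Core.subIn_of_isNilpotent n le_sup_right)
    ((O_pig _ _).of_le (s.trans l)) with e | ⟨-, e⟩
  · refine (le_St P.leV (abel_norm h.ab.abel P.leV)).2 ?_ (mem_cj_conj.2 hb)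
    rw [e, ← P'.eq, (hA.pair_sd hy).sup]; exact commS le_rfl le_sup_right
  · exact (hA.comm_ne h (eq_bot_iff.2 ((le_inf ((commS le_rfl le_sup_right).trans P.eq.le)
      ((commS le_rfl le_sup_right).trans P'.eq.le)).trans e.le))).elim

/-- the normal closure of `A` under the `p'`-core -/
abbrev EA (p : ℕ) (H A : Subgroup G) : Subgroup G := ⁅O[{p}ᶜ](H), A⁆ ⊔ A

theorem TV.eq_of (hA : TV p V H A) (hB : TV p V H B) (h : FF p V H) (e : ⁅V, EA p H A⁆ = ⁅V, EA p H B⁆) :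
    EA p H A = EA p H B := by
  have key : ∀ {A B}, TV p V H A → TV p V H B → ⁅V, EA p H A⁆ = ⁅V, EA p H B⁆ → EA p H B ≤ EA p H A :=
    fun {A B} hA hB e => by
    have P := hA.plane h
    have P' := hB.plane h
    obtain ⟨φ, f⟩ := exists_slrep P.pn
    have e' : ⁅V, ⁅O[{p}ᶜ](H), A⁆⁆ = ⁅V, ⁅O[{p}ᶜ](H), B⁆⁆ := by rw [← P.eq, ← P'.eq, e]
    have a := le_inf (f.le_sup (P.dom f) (P.im_top f) (P'.dom (e' ▸ f))) (le_sup_right (a := EA p H A))
    have l := sup_le P.leE P'.leE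
    have n := normI (normC (normR ((O_le {p}ᶜ H).trans h.nV) (comm_norml O[{p}ᶜ](H) A)))
      (normY (norm_clos O[{p}ᶜ](H) A) (norm_clos O[{p}ᶜ](H) B))
    have b := stab_pig (V := V) (D := C[⁅V, ⁅O[{p}ᶜ](H), A⁆⁆] ⊓ (EA p H A ⊔ EA p H B)) (h.pig.of_le P.leV)
      ((commS le_rfl inf_le_right).trans (by rw [comm_sup_eq P.nV P'.nV, ← e, sup_idem, P.eq]))
      (cent_symm inf_le_left) (h.bot (inf_le_left.trans (inf_le_right.trans l)) inf_le_right)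
    rwa [modl_r (normC P.nW) le_sup_left, h.eq_bot (inf_le_right.trans l) b
      (b.cent (O_pig _ _) (inf_le_right.trans (l.trans (O_norm _ _))) n), sup_bot_eq] at a
  exact le_antisymm (key hB hA e.symm) (key hA hB e)

theorem TV.cmp (hA : TV p V H A) (hB : TV p V H B) (h : FF p V H) :
    EA p H A = EA p H B ∨ ⁅V, EA p H A⁆ ≤ C[EA p H B] := by
  have P := hA.plane h
  have P' := hB.plane h
  have l := sup_le (commL hA.nQ) (commL hB.nQ)
  rcases P.cmp P' (.of_normal le_sup_left (l.trans (comm_norml _ _)))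
    (.of_normal le_sup_right (l.trans (comm_norml _ _))) ((O_pig _ _).of_le l) with e | ⟨a, b⟩
  · exact .inl (hA.eq_of hB h (by rw [P.eq, P'.eq, e]))
  · refine .inr (P.eq.le.trans (le_trans ?_ (P'.cent.ge.trans inf_le_right)))
    exact le_inf P.leV (cent_of_comm (P.le.trans h.nV) (P'.le.trans h.nV) a b)

theorem cj_EA (h : g ∈ N[H]) : cj g (EA p H A) = EA p H (cj g A) := by
  rw [cj_sup, cj_comm, cj_O, cj_of_mem_N h]

/-- `H` is generated by its transvection groups -/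
def Gen (p : ℕ) (V H : Subgroup G) : Prop := ∀ K, (∀ A, TV p V H A → A ≤ K) → H ≤ K

theorem FF.gen_of (h : FF p V H) (h1 : H ≤ ⨆ A : {A : Subgroup G // A ≤ H ∧ IsBestOffenderOn p V A}, A.1) :
    Gen p V H := fun _ hK => h1.trans (iSup_le fun A =>
  h.gen A.2.1 (h.best_ab A.2.1 A.2.2) (best_ge A.2.2) fun T _ a => hK T a)

theorem Gen.exists (hg : Gen p V H) (h1 : H ≠ ⊥) : ∃ A, TV p V H A := by
  by_contra hn
  exact h1 (eq_bot_iff.2 (hg ⊥ fun A a => (hn ⟨A, a⟩).elim))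

namespace TV
variable (hA : TV p V H A) (h : FF p V H) (hg : Gen p V H)
include hA h hg

theorem nW : H ≤ N[⁅V, EA p H A⁆] := hg _ fun B hB => by
  rcases hA.cmp hB h with e | e
  · rw [e]; exact le_sup_right.trans (comm_normr _ _)
  · exact cents_norm (le_sup_right.trans (cent_symm e))

theorem nE : H ≤ N[EA p H A] := fun g a => by
  rw [mem_N_iff_cj, cj_EA (normG H a)]
  refine (hA.cj (normG H a) (h.nV a)).eq_of hA h ?_
  rw [← cj_EA (normG H a), ← cj_of_mem_N (hA.nW h hg a), cj_comm, cj_of_mem_N (h.nV a)]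

theorem dprod : Dprod (EA p H A) (H ⊓ C[⁅V, EA p H A⁆]) H := by
  have P := hA.plane h
  have i : EA p H A ⊓ (H ⊓ C[⁅V, EA p H A⁆]) = ⊥ :=
    eq_bot_iff.2 ((inf_le_inf_left _ inf_le_right).trans (P.eq ▸ P.faith.le))
  refine ⟨?_, i, cent_of_norm_inf (inf_le_left.trans (hA.nE h hg))
    (normI (normsG P.leE) (normC (comm_normr _ _))) (inf_comm (EA p H A) _ ▸ i)⟩
  obtain ⟨φ, f⟩ := exists_slrep P.pn
  have a := f.le_sup (P.dom f) (P.im_top f) (hg _ fun B hB => f.le (hB.le.trans (P.eq ▸ hA.nW h hg)) hB.card)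
  rw [inf_comm, ← modl_r (normC (comm_normr _ _)) P.leE, P.eq, inf_eq_right.2 a]

theorem comm_F : ⁅V, H ⊓ C[⁅V, EA p H A⁆]⁆ ≤ V ⊓ C[EA p H A] := by
  refine le_inf (commL (inf_le_left.trans h.nV)) (comm_eq_bot.1 ?_)
  rw [commC V]
  exact three_subgroup (comm_eq_bot'.2 inf_le_right)
    (by rw [comm_eq_bot'.2 (hA.dprod h hg).cent, commutator_bot_left])

end TV

/-- the set of the factors `SL(2, p)` -/
def Facs (p : ℕ) (V H : Subgroup G) : Set (Subgroup G) := {E | ∃ A, TV p V H A ∧ E = EA p H A}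

theorem Facs.cent (h : FF p V H) (h1 : E ∈ Facs p V H) (h2 : D ∈ Facs p V H) (hne : E ≠ D) : ⁅V, E⁆ ≤ C[D] := by
  obtain ⟨A, hA, rfl⟩ := h1
  obtain ⟨B, hB, rfl⟩ := h2
  exact (hA.cmp hB h).resolve_left hne

theorem Gen.le_sSup (hg : Gen p V H) : H ≤ sSup (Facs p V H) :=
  hg _ fun A hA => le_sup_right.trans (_root_.le_sSup ⟨A, hA, rfl⟩)

theorem FF.dprod_V (h : FF p V H) (hg : Gen p V H) : Dprod (V ⊓ C[H]) (⨆ E ∈ Facs p V H, ⁅V, E⁆) V := by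
  let R := ⨆ A : {A // TV p V H A}, ⁅O[{p}ᶜ](H), A.1⁆
  have l : R ≤ O[{p}ᶜ](H) := iSup_le fun A => commL A.2.nQ
  have d := cop_abel_dprod h.ab.abel (l.trans ((O_le _ _).trans h.nV)) (PiN.coprime' ((O_pig _ _).of_le l) h.pig)
  have a : V ⊓ C[R] = V ⊓ C[H] := le_antisymm (le_inf inf_le_left (cent_symm (hg _ fun A hA => cent_symm
    ((inf_le_inf_left _ (centS (le_iSup (fun A : {A // TV p V H A} => ⁅O[{p}ᶜ](H), A.1⁆) ⟨A, hA⟩))).trans
      ((hA.plane h).cent.ge.trans (inf_le_right.trans (centS le_sup_right)))))))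
    (inf_le_inf_left _ (centS (l.trans (O_le _ _))))
  have w : (⨆ E ∈ Facs p V H, ⁅V, E⁆) ≤ V := iSup₂_le fun E ⟨A, hA, e⟩ => e ▸ commL (hA.plane h).nV
  have b : ⁅V, R⁆ = ⨆ E ∈ Facs p V H, ⁅V, E⁆ := le_antisymm ((le_St w (abel_norm h.ab.abel w)).1 (iSup_le fun A =>
    (le_St w (abel_norm h.ab.abel w)).2 ((commS le_rfl le_sup_left).trans
      (le_iSup₂ (f := fun E (_ : E ∈ Facs p V H) => ⁅V, E⁆) _ ⟨A.1, A.2, rfl⟩))))
    (iSup₂_le fun E ⟨A, hA, e⟩ => e ▸ (hA.plane h).eq.le.trans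
      (commS le_rfl (le_iSup (fun A : {A // TV p V H A} => ⁅O[{p}ᶜ](H), A.1⁆) ⟨A, hA⟩)))
  rwa [a, b] at d

theorem ff_of (hV : IsElementaryAbelian p V) (h1 : H ≤ N[V]) (h2 : H ⊓ C[V] = ⊥)
    (h3 : C[pPrimeCore p H] ≤ pPrimeCore p H) : FF p V H := by
  refine ⟨abelem_iff.2 hV, h1, h2, fun x hx => ?_⟩
  rw [← pPrimeCore_map hp.out] at hx ⊢
  exact ⟨⟨x, hx.1⟩, h3 (mem_C.2 fun a ha => Subtype.ext (mem_C.1 hx.2 _ ⟨a, ha, rfl⟩)), rfl⟩

end Cfsg.Agent.Fac
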